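import Cfsg.Agent.Lib.BTBlock.Subn.Inner

/-!
# The derived group of `SL₂` in characteristic three and the alternating form
-/

set_option autoImplicit false

namespace Cfsg.Agent.Lib.BTBlock.Cent

open Matrix Cfsg.Agent.Lib.SL2 Subn
open scoped commutatorElement

variable {F : Type} [Field F] [CharP F 3]

theorem three_eq_zero : (3 : F) = 0 := by exact_mod_cast CharP.cast_eq_zero F 3

theorem two_ne_zero' : (2 : F) ≠ 0 := fun h =>
  one_ne_zero (by linear_combination (three_eq_zero (F := F)) - h : (1 : F) = 0)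

theorem ext_mulVec {a b : SLtwo F}
    (h : ∀ v, (a : Matrix (Fin 2) (Fin 2) F).mulVec v = (b : Matrix (Fin 2) (Fin 2) F).mulVec v) :
    a = b := Subtype.ext (Matrix.ext_of_mulVec_single fun j => h (Pi.single j 1))

theorem neg_one_mulVec (v : Fin 2 → F) :
    (((-1 : SLtwo F)) : Matrix (Fin 2) (Fin 2) F).mulVec v = -v := by
  simp [Matrix.neg_mulVec]

theorem neg_one_ne_one : (-1 : SLtwo F) ≠ 1 := by
  intro h
  have h1 := congrArg (fun k : SLtwo F => (k : Matrix (Fin 2) (Fin 2) F) 0 0) h
  simp at h1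
  exact two_ne_zero' (F := F) (by linear_combination -h1)

/-- Two anticommuting elements of order four of the derived group. -/
theorem exists_quat : ∃ a ∈ commutator (SLtwo F), ∃ b ∈ commutator (SLtwo F),
    a * a = -1 ∧ a * b * a⁻¹ * b⁻¹ = -1 := by
  have h3 := three_eq_zero (F := F)
  set k₁ : SLtwo F := ⁅upper (1 : F), lower (1 : F)⁆ with hk₁
  set k₂ : SLtwo F := upper 1 * k₁ * (upper 1)⁻¹ with hk₂
  have m₁ : k₁ ∈ commutator (SLtwo F) := commutator_mem_derived _ _
  have m₂ : k₂ ∈ commutator (SLtwo F) :=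
    (inferInstance : (commutator (SLtwo F)).Normal).conj_mem _ m₁ _
  have v₁ : ∀ v : Fin 2 → F, (k₁ : Matrix (Fin 2) (Fin 2) F).mulVec v = ![-v 1, v 0] := fun v => by
    rw [hk₁, commutatorElement_def, upper_inv, lower_inv]
    simp only [Matrix.SpecialLinearGroup.coe_mul, ← Matrix.mulVec_mulVec, upper_mulVec, lower_mulVec]
    funext i
    fin_cases i <;> simp
    · linear_combination v 0 * h3
    · ring
  have v₂ : ∀ v : Fin 2 → F,
      (k₂ : Matrix (Fin 2) (Fin 2) F).mulVec v = ![v 0 + v 1, v 0 - v 1] := fun v => by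
    rw [hk₂, upper_inv]
    simp only [Matrix.SpecialLinearGroup.coe_mul, ← Matrix.mulVec_mulVec, v₁, upper_mulVec]
    funext i
    fin_cases i <;> simp
    · linear_combination (-v 1) * h3
    · ring
  have hsq : k₁ * k₁ = -1 := ext_mulVec fun v => by
    rw [Matrix.SpecialLinearGroup.coe_mul, ← Matrix.mulVec_mulVec, v₁, v₁, neg_one_mulVec]
    funext i; fin_cases i <;> simp
  have hanti : k₁ * k₂ = -1 * (k₂ * k₁) := ext_mulVec fun v => by
    simp only [Matrix.SpecialLinearGroup.coe_mul, ← Matrix.mulVec_mulVec, v₁, v₂, neg_one_mulVec]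
    funext i; fin_cases i <;> simp <;> ring
  refine ⟨k₁, m₁, k₂, m₂, hsq, ?_⟩
  rw [hanti]; group

theorem neg_one_mem : (-1 : SLtwo F) ∈ commutator (SLtwo F) := by
  obtain ⟨a, ha, -, -, h, -⟩ := exists_quat (F := F)
  exact h ▸ mul_mem ha ha

/-- `-1` is the only involution. -/
theorem eq_neg_one_of_sq {k : SLtwo F} (h : k * k = 1) (h1 : k ≠ 1) : k = -1 := by
  have h2 := two_ne_zero' (F := F)
  have hM : ∀ i j, ((k : Matrix (Fin 2) (Fin 2) F) * k) i j = (1 : Matrix (Fin 2) (Fin 2) F) i j := by
    intro i j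
    rw [← Matrix.SpecialLinearGroup.coe_mul, h, Matrix.SpecialLinearGroup.coe_one]
  have hd : (k : Matrix (Fin 2) (Fin 2) F).det = 1 := k.2
  rw [Matrix.det_fin_two] at hd
  set a := (k : Matrix (Fin 2) (Fin 2) F) 0 0
  set b := (k : Matrix (Fin 2) (Fin 2) F) 0 1
  set c := (k : Matrix (Fin 2) (Fin 2) F) 1 0
  set d := (k : Matrix (Fin 2) (Fin 2) F) 1 1
  have e00 : a * a + b * c = 1 := by simpa [Matrix.mul_apply, Fin.sum_univ_two] using hM 0 0
  have e01 : a * b + b * d = 0 := by simpa [Matrix.mul_apply, Fin.sum_univ_two] using hM 0 1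
  have e10 : c * a + d * c = 0 := by simpa [Matrix.mul_apply, Fin.sum_univ_two] using hM 1 0
  have e11 : c * b + d * d = 1 := by simpa [Matrix.mul_apply, Fin.sum_univ_two] using hM 1 1
  have ht : a + d ≠ 0 := fun h0 => by
    refine h2 ?_
    linear_combination a * h0 - e00 - hd
  have hb : b = 0 := by
    refine (mul_eq_zero.mp (?_ : (a + d) * b = 0)).resolve_left ht
    linear_combination e01
  have hc : c = 0 := by
    refine (mul_eq_zero.mp (?_ : (a + d) * c = 0)).resolve_left ht
    linear_combination e10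
  rw [hb, zero_mul, add_zero] at e00
  rw [hb, mul_zero, zero_add] at e11
  have had : a = d := by
    rw [hb, zero_mul, sub_zero] at hd
    linear_combination d * e00 - a * hd
  rcases mul_self_eq_one_iff.mp e00 with ha | ha
  · refine absurd (Matrix.SpecialLinearGroup.ext _ _ fun i j => ?_) h1
    fin_cases i <;> fin_cases j <;> simp <;> first | exact ha | exact hb | exact hc | exact had.symm.trans ha
  · refine Matrix.SpecialLinearGroup.ext _ _ fun i j => ?_
    fin_cases i <;> fin_cases j <;> simp <;> first | exact ha | exact hb | exact hc | exact had.symm.trans ha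

/-- Scalars are the only additive maps commuting with the derived group. -/
theorem exists_scalar [Fintype F] (T : (Fin 2 → F) →+ (Fin 2 → F))
    (hT : ∀ k ∈ commutator (SLtwo F), ∀ v, T ((k : Matrix (Fin 2) (Fin 2) F).mulVec v) =
      (k : Matrix (Fin 2) (Fin 2) F).mulVec (T v)) : ∃ c : F, ∀ v, T v = c • v := by
  rcases card_prime_or_four_le (F := F) with hq | hq
  · refine exists_scalar_of_three ?_ T hT
    haveI : Fact (Fintype.card F).Prime := ⟨hq⟩
    exact (CharP.eq F (charP_of_card_eq_prime rfl) ‹CharP F 3›)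
  · exact exists_scalar_of_four_le hq T hT

/-- The determinant as a form. -/
def det2 (v w : Fin 2 → F) : F := v 0 * w 1 - v 1 * w 0

omit [CharP F 3] in
theorem det2_mulVec (k : SLtwo F) (v w : Fin 2 → F) :
    det2 ((k : Matrix (Fin 2) (Fin 2) F).mulVec v) ((k : Matrix (Fin 2) (Fin 2) F).mulVec w) =
      det2 v w := by
  have hd : (k : Matrix (Fin 2) (Fin 2) F).det = 1 := k.2
  rw [Matrix.det_fin_two] at hd
  simp only [det2, Matrix.mulVec, dotProduct, Fin.sum_univ_two]
  linear_combination (v 0 * w 1 - v 1 * w 0) * hd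

/-- A generating invariant alternating form is the determinant. -/
theorem form_eq_det [Fintype F] {A : Type*} [AddCommGroup A] [Finite A]
    (hA : Nat.card A = Nat.card F) (β : (Fin 2 → F) → (Fin 2 → F) → A)
    (hl : ∀ u v w, β (u + v) w = β u w + β v w) (hr : ∀ u v w, β u (v + w) = β u v + β u w)
    (halt : ∀ v, β v v = 0)
    (hinv : ∀ k ∈ commutator (SLtwo F), ∀ v w, β ((k : Matrix (Fin 2) (Fin 2) F).mulVec v)
      ((k : Matrix (Fin 2) (Fin 2) F).mulVec w) = β v w)
    (hgen : ∀ X : AddSubgroup A, (∀ v w, β v w ∈ X) → X = ⊤) {v w v' w' : Fin 2 → F} :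
    β v w = β v' w' ↔ det2 v w = det2 v' w' := by
  have hl0 : ∀ y, β 0 y = 0 := fun y => by have h := hl 0 0 y; rw [add_zero] at h; simpa using h
  have hr0 : ∀ y, β y 0 = 0 := fun y => by have h := hr y 0 0; rw [add_zero] at h; simpa using h
  have hanti : ∀ x y, β y x = - β x y := fun x y => by
    have h := halt (x + y)
    rw [hl, hr, hr, halt, halt, zero_add, add_zero] at h
    exact eq_neg_of_add_eq_zero_right h
  obtain ⟨h11, h22, hmul⟩ : (∀ a b : F, β ![a, 0] ![b, 0] = 0) ∧ (∀ a b : F, β ![0, a] ![0, b] = 0) ∧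
      ∀ a b : F, β ![a, 0] ![0, b] = β ![a * b, 0] ![0, 1] := by
    rcases card_prime_or_four_le (F := F) with hq | hq
    · have hn : ∀ (k : ℕ) x y, β ((k : F) • x) y = k • β x y ∧ β x ((k : F) • y) = k • β x y := by
        intro k x y
        induction k with
        | zero => simp [hl0, hr0]
        | succ k ih =>
          simp only [Nat.cast_succ, add_smul, one_smul, hl, hr, ih.1, ih.2, succ_nsmul, and_self]
      refine ⟨fun a b => ?_, fun a b => ?_, fun a b => ?_⟩
      all_goals
        obtain ⟨k, rfl⟩ := natCast_surjective_of_prime hq a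
        obtain ⟨l, rfl⟩ := natCast_surjective_of_prime hq b
      · have e : ∀ m : ℕ, (![(m : F), 0] : Fin 2 → F) = (m : F) • ![1, 0] := fun m => by simp
        rw [e k, e l, (hn k _ _).1, (hn l _ _).2, halt, smul_zero, smul_zero]
      · have e : ∀ m : ℕ, (![0, (m : F)] : Fin 2 → F) = (m : F) • ![0, 1] := fun m => by simp
        rw [e k, e l, (hn k _ _).1, (hn l _ _).2, halt, smul_zero, smul_zero]
      · have e : (![0, (l : F)] : Fin 2 → F) = (l : F) • ![0, 1] := by simp
        have e' : (![(k : F) * (l : F), 0] : Fin 2 → F) = (l : F) • ![(k : F), 0] := by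
          simp [mul_comm]
        rw [e, e', (hn l _ _).2, (hn l _ _).1]
    · have htop : ∀ k : SLtwo F, ∀ x y, β ((k : Matrix (Fin 2) (Fin 2) F).mulVec x)
          ((k : Matrix (Fin 2) (Fin 2) F).mulVec y) = β x y :=
        fun k => hinv k ((eq_top_of_four_le hq).ge (Subgroup.mem_top k))
      have h11 : ∀ a b : F, β ![a, 0] ![b, 0] = 0 := fun a b => by
        have h := htop (upper b) ![a, 0] ![0, 1]
        rw [upper_mulVec, upper_mulVec] at h
        simp only [Matrix.cons_val_zero, Matrix.cons_val_one, mul_zero, add_zero, zero_add,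
          mul_one] at h
        have e : (![b, 1] : Fin 2 → F) = ![b, 0] + ![0, 1] := by simp
        rw [e, hr] at h
        simpa using h
      have h22 : ∀ a b : F, β ![0, a] ![0, b] = 0 := fun a b => by
        have h := htop (lower b) ![0, a] ![1, 0]
        rw [lower_mulVec, lower_mulVec] at h
        simp only [Matrix.cons_val_zero, Matrix.cons_val_one, mul_zero, add_zero, zero_add,
          mul_one] at h
        have e : (![1, b] : Fin 2 → F) = ![1, 0] + ![0, b] := by simp
        rw [e, hr] at h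
        simpa using h
      refine ⟨h11, h22, fun a b => ?_⟩
      rcases eq_or_ne b 0 with rfl | hb
      · have e : (![0, (0 : F)] : Fin 2 → F) = 0 := by simp
        have e' : (![a * 0, (0 : F)] : Fin 2 → F) = 0 := by simp
        rw [e, e', hr0, hl0]
      · have h := htop (SL2.diag (Units.mk0 b hb)) ![a, 0] ![0, b]
        have e : ∀ (x y : F), ((SL2.diag (Units.mk0 b hb) : SLtwo F) : Matrix (Fin 2) (Fin 2) F).mulVec
            ![x, y] = ![b * x, b⁻¹ * y] := fun x y => by
          funext i; fin_cases i <;> simp [SL2.diag, Matrix.mulVec, dotProduct, Fin.sum_univ_two]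
        rw [e, e, inv_mul_cancel₀ hb, mul_zero, mul_zero, mul_comm b a] at h
        exact h.symm
  set θ : F → A := fun c => β ![c, 0] ![0, 1] with hθ
  have hθadd : ∀ x y, θ (x + y) = θ x + θ y := fun x y => by
    simp only [hθ]
    rw [show (![x + y, 0] : Fin 2 → F) = ![x, 0] + ![y, 0] by simp, hl]
  have hform : ∀ x y, β x y = θ (det2 x y) := fun x y => by
    have ex : x = ![x 0, 0] + ![0, x 1] := by funext i; fin_cases i <;> simp
    have ey : y = ![y 0, 0] + ![0, y 1] := by funext i; fin_cases i <;> simp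
    have hsub : θ (x 0 * y 1 - x 1 * y 0) = θ (x 0 * y 1) - θ (x 1 * y 0) := by
      rw [eq_sub_iff_add_eq, ← hθadd, sub_add_cancel]
    conv_lhs => rw [ex, ey]
    rw [hl, hr, hr, h11, h22, hanti ![y 0, 0] ![0, x 1], hmul (x 0) (y 1), hmul (y 0) (x 1),
      mul_comm (y 0) (x 1), det2, hsub]
    simp only [hθ, zero_add, add_zero, sub_eq_add_neg]
  let θ' : F →+ A := AddMonoidHom.mk' θ hθadd
  have hsurj : Function.Surjective θ' := AddMonoidHom.range_eq_top.mp
    (hgen θ'.range fun x y => ⟨det2 x y, (hform x y).symm⟩)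
  have hinj : Function.Injective θ' :=
    ((Nat.bijective_iff_surjective_and_card θ').mpr ⟨hsurj, hA.symm⟩).1
  rw [hform, hform]
  exact ⟨fun h => hinj h, fun h => congrArg θ h⟩

/-- A surjective additive map preserving the determinant form is a matrix of determinant one. -/
theorem exists_SL_of_preserves [Fintype F] (T : (Fin 2 → F) →+ (Fin 2 → F))
    (hT : ∀ v w, det2 (T v) (T w) = det2 v w) :
    ∃ k : SLtwo F, ∀ v, T v = (k : Matrix (Fin 2) (Fin 2) F).mulVec v := by
  have hnd : ∀ x : Fin 2 → F, (∀ w, det2 x w = 0) → x = 0 := fun x h => by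
    have h0 := h ![0, 1]
    have h1 := h ![1, 0]
    simp [det2] at h0 h1
    funext i; fin_cases i <;> simp [h0, h1]
  have hinj : Function.Injective T := (injective_iff_map_eq_zero T).mpr fun v hv =>
    hnd v fun w => by rw [← hT, hv]; simp [det2]
  have hsurj := Finite.injective_iff_surjective.mp hinj
  have hlin : ∀ (c : F) v, T (c • v) = c • T v := fun c v => by
    rw [← sub_eq_zero]
    refine hnd _ fun w => ?_
    obtain ⟨w, rfl⟩ := hsurj w
    have h1 : det2 (T (c • v) - c • T v) (T w) = det2 (T (c • v)) (T w) - c * det2 (T v) (T w) := by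
      simp only [det2, Pi.sub_apply, Pi.smul_apply, smul_eq_mul]; ring
    rw [h1, hT, hT]
    simp only [det2, Pi.smul_apply, smul_eq_mul]; ring
  have hTv : ∀ v, T v = v 0 • T ![1, 0] + v 1 • T ![0, 1] := fun v => by
    conv_lhs => rw [show v = v 0 • ![1, 0] + v 1 • ![0, 1] by funext i; fin_cases i <;> simp]
    rw [map_add, hlin, hlin]
  refine ⟨⟨!![T ![1, 0] 0, T ![0, 1] 0; T ![1, 0] 1, T ![0, 1] 1], ?_⟩, fun v => ?_⟩
  · have h := hT ![1, 0] ![0, 1]
    simp [det2] at h
    rw [Matrix.det_fin_two_of]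
    linear_combination h
  · rw [hTv v]
    funext i
    fin_cases i <;> simp [Matrix.mulVec, dotProduct, Fin.sum_univ_two] <;> ring

/-- A nontrivial subgroup normalised by the derived group contains `-1`. -/
theorem neg_one_mem_of_normalized [Fintype F] {N : Subgroup (SLtwo F)} (hN : N ≠ ⊥)
    (hn : ∀ l ∈ commutator (SLtwo F), ∀ x ∈ N, l * x * l⁻¹ ∈ N) : (-1 : SLtwo F) ∈ N := by
  classical
  obtain ⟨⟨s, hs⟩, hs1⟩ : ∃ s : N, s ≠ 1 := by
    by_contra hc
    push Not at hc
    exact hN ((Subgroup.eq_bot_iff_forall N).mpr fun x hx => congrArg Subtype.val (hc ⟨x, hx⟩))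
  by_cases hall : ∀ l ∈ commutator (SLtwo F), s * l = l * s
  · -- `s` is a scalar of determinant one
    obtain ⟨c, hc⟩ := exists_scalar
      (AddMonoidHom.mk' (fun v => (s : Matrix (Fin 2) (Fin 2) F).mulVec v) (Matrix.mulVec_add _))
      fun k hk v => by
        simp only [AddMonoidHom.mk'_apply, Matrix.mulVec_mulVec,
          ← Matrix.SpecialLinearGroup.coe_mul, hall k hk]
    have hss : s * s = 1 := by
      have h := det2_mulVec s ![1, 0] ![0, 1]
      simp only [AddMonoidHom.mk'_apply] at hc
      rw [hc, hc] at h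
      simp [det2] at h
      refine ext_mulVec fun v => ?_
      rw [Matrix.SpecialLinearGroup.coe_mul, ← Matrix.mulVec_mulVec, hc, hc, smul_smul, h, one_smul]
      simp
    rwa [eq_neg_one_of_sq hss fun h => hs1 (Subtype.ext h)] at hs
  · push Not at hall
    obtain ⟨l, hl, hne⟩ := hall
    set t := ⁅s, l⁆ with ht
    have htN : t ∈ N := by
      rw [ht, commutatorElement_def, mul_assoc, mul_assoc, ← mul_assoc l]
      exact mul_mem hs (hn l hl _ (inv_mem hs))
    have htL : t ∈ commutator (SLtwo F) := commutator_mem_derived _ _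
    have ht1 : t ≠ 1 := fun h => hne (commutatorElement_eq_one_iff_mul_comm.mp h)
    rcases card_prime_or_four_le (F := F) with hq | hq
    · have h3 : Fintype.card F = 3 := by
        haveI : Fact (Fintype.card F).Prime := ⟨hq⟩
        exact (CharP.eq F (charP_of_card_eq_prime rfl) ‹CharP F 3›)
      have hQ := Sub.isQEight_commutator_SL2 (F := F) h3
      by_cases h2 : t * t = 1
      · rwa [eq_neg_one_of_sq h2 ht1] at htN
      · have h4 : (t * t) * (t * t) = 1 := by
          have := congrArg Subtype.val (hQ.2.1 ⟨t, htL⟩)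
          simp only [SubmonoidClass.coe_pow, OneMemClass.coe_one] at this
          rw [← this]; simp only [pow_succ, pow_zero, one_mul, mul_assoc]
        have := mul_mem htN htN
        rwa [eq_neg_one_of_sq h4 h2] at this
    · have hq' := BlockDiag.quasisimple_SL (F := F) (m := 2) le_rfl
        fun _ => by rw [Nat.card_eq_fintype_card]; exact hq
      haveI : N.Normal := ⟨fun x hx g => hn g ((eq_top_of_four_le hq).ge (Subgroup.mem_top g)) x hx⟩
      rcases Components.quasisimple_normal_eq_top_or_le_center hq' N with h | h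
      · exact h ▸ Subgroup.mem_top _
      · have hz := Subgroup.mem_center_iff.mp (h hs) l
        exact absurd hz.symm hne

end Cfsg.Agent.Lib.BTBlock.Cent
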