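import Cfsg.Agent.Lib.BTBlock.Cent.Tools
import Cfsg.Agent.Lib.BTBlock.Cent.SLTwo

/-!
# The exceptional block with `O_3(E) ≤ O_3(G)`: fixed and inverted elements of a central involution
-/

set_option autoImplicit false

namespace Cfsg.Agent.Lib.BTBlock.Cent

open Subgroup Cfsg Sub Subn Matrix Cfsg.Agent.Lib.SL2
open scoped commutatorElement

universe u

variable {G : Type u} [Group G] [Finite G] [Fact (Nat.Prime 3)]

/-- An exceptional block with its two natural modules and a central involution. -/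
structure Ctx (T : Sylow 3 G) (E : Subgroup G) (F : Type) [Field F] [Fintype F] where
  hG : centralizer (pCore 3 G : Set G) ≤ pCore 3 G
  hE : IsBaumannBlock 3 (T : Subgroup G) E
  hQW : bQ 3 E ≠ bW 3 E
  hQR : bQ 3 E ≤ pCore 3 G
  hiso : Nonempty (↥E ⧸ pCore 3 ↥E ≃* ↥(commutator (SLtwo F)))
  S : SL2Sec F E (bW 3 E) (bZ 3 E)
  S₂ : SL2Sec F E (bQ 3 E) (bW 3 E)
  hder : ⁅bQ 3 E, bQ 3 E⁆ = bZ 3 E
  hcardZ : Nat.card ↥(bZ 3 E) = Nat.card F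
  hquad : ∀ b ∈ baumannSubgroupOf 3 (T : Subgroup G), b ∉ centralizer (bW 3 E : Set G) →
    ¬ ⁅⁅bQ 3 E, zpowers b⁆, zpowers b⁆ ≤ bZ 3 E
  j : G
  j_mem : j ∈ E
  j_mul : j * j = 1
  j_mat : S.mat j = -1
  j_mat₂ : S₂.mat j = -1

theorem mem_bQ_of_mat₂_one {F : Type} [Field F] {E : Subgroup G} (hb : IsBlock 3 E)
    (hQW : bQ 3 E ≠ bW 3 E) (S₂ : SL2Sec F E (bQ 3 E) (bW 3 E)) {e : G} (he : e ∈ E)
    (h : S₂.mat e = 1) : e ∈ bQ 3 E := by
  obtain ⟨-, ⟨-, hfaith, -⟩, -⟩ := hb.exceptional hQW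
  refine hfaith e he fun w hw => ?_
  refine (S₂.val_eq_iff ((conj_mem_iff (bQ_normal E he) w).mpr hw) hw).mp ?_
  rw [S₂.val_conj he hw, h]
  simp

theorem exists_ctx {T : Sylow 3 G} {E : Subgroup G}
    (hG : centralizer (pCore 3 G : Set G) ≤ pCore 3 G)
    (hE : IsBaumannBlock 3 (T : Subgroup G) E) (hQW : bQ 3 E ≠ bW 3 E)
    (hQR : bQ 3 E ≤ pCore 3 G) :
    ∃ (F : Type) (_ : Field F) (_ : Fintype F) (_ : CharP F 3), Nonempty (Ctx T E F) := by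
  have hb : IsBlock 3 E := ⟨T, hE⟩
  rcases hE.2.2.2.2 with ⟨F, i1, i2, n, hc, hiso, hact, hex⟩ | ⟨h32, -⟩
  swap
  · omega
  rcases hex with hex | ⟨-, hact₂, hder, -, hEC, hcardZ, hquad⟩
  · exact absurd hex hQW
  haveI : CharP F 3 := charP_of_card_eq_prime_pow hc
  obtain ⟨S⟩ := exists_sec hact
  obtain ⟨S₂⟩ := exists_sec hact₂
  have hWQ : ⁅bQ 3 E, bQ 3 E⁆ ≤ bW 3 E := hder.le.trans inf_le_left
  obtain ⟨e, he, hem⟩ := S.exists_mat (neg_one_mem (F := F))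
  set m := ordCompl[2] (orderOf e) with hm
  have hmodd : Odd m := by
    rw [Nat.odd_iff, ← Nat.two_dvd_ne_zero]
    exact Nat.not_dvd_ordCompl Nat.prime_two (orderOf_pos e).ne'
  set j := e ^ m with hj
  have hjE : j ∈ E := pow_mem he m
  have hpow : ∀ k : ℕ, S.mat (e ^ k) = (-1 : SLtwo F) ^ k := by
    intro k
    induction k with
    | zero => rw [pow_zero, pow_zero, S.mat_eq (one_mem E)]; exact map_one S.ρ
    | succ k ih => rw [pow_succ, pow_succ, S.mat_mul (pow_mem he k) he, ih, hem]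
  have hjm : S.mat j = -1 := by rw [hj, hpow, hmodd.neg_one_pow]
  have hQ' : j * j ∈ bQ 3 E := by
    refine S.mem_bQ_of_mat_one hb (mul_mem hjE hjE) ?_
    rw [S.mat_mul hjE hjE, hjm]; simp
  have hjj : j * j = 1 := by
    refine eq_one_of_mem_of_coprime (isPGroup_bQ E) hQ' ?_
    rw [← sq, hj, ← pow_mul]
    have hd : orderOf (e ^ (m * 2)) ∣ 2 ^ (orderOf e).factorization 2 := by
      refine orderOf_dvd_of_pow_eq_one ?_
      rw [← pow_mul, show m * 2 * 2 ^ (orderOf e).factorization 2 =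
        orderOf e * 2 by
          conv_rhs => rw [← Nat.ordProj_mul_ordCompl_eq_self (orderOf e) 2]
          ring,
        pow_mul, pow_orderOf_eq_one, one_pow]
    exact Nat.Coprime.coprime_dvd_left hd (Nat.Coprime.pow_left _ (by norm_num))
  have hjQ : j ∉ bQ 3 E := fun h => by
    refine neg_one_ne_one (F := F) ?_
    rw [← hjm, S.mat_eq_one h]
  have hjm₂ : S₂.mat j = -1 := by
    refine eq_neg_one_of_sq ?_ fun h => hjQ (mem_bQ_of_mat₂_one hb hQW S₂ hjE h)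
    rw [← S₂.mat_mul hjE hjE, hjj, S₂.mat_eq (one_mem E)]
    exact map_one S₂.ρ
  refine ⟨F, i1, i2, inferInstance, ⟨{
    hG := hG, hE := hE, hQW := hQW, hQR := hQR, hiso := hiso, S := S, S₂ := S₂, hder := hder
    hcardZ := ?_, hquad := ?_, j := j, j_mem := hjE, j_mul := hjj, j_mat := hjm, j_mat₂ := hjm₂ }⟩⟩
  · rw [show bZ 3 E = E ⊓ centralizer (E : Set G) from hEC.symm, hcardZ, Nat.card_eq_fintype_card, hc]
  · intro b hb' hbW
    rw [show bZ 3 E = E ⊓ centralizer (E : Set G) from hEC.symm]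
    exact hquad b hb' hbW

variable {T : Sylow 3 G} {E : Subgroup G} {F : Type} [Field F] [Fintype F] [CharP F 3]
  (X : Ctx T E F)

include X

omit [CharP F 3] in
theorem Ctx.hb : IsBlock 3 E := ⟨T, X.hE⟩

theorem Ctx.hWQ : ⁅bQ 3 E, bQ 3 E⁆ ≤ bW 3 E := X.hder.le.trans inf_le_left

theorem Ctx.hWR : bW 3 E ≤ pCore 3 G := (bW_le E).trans X.hQR

theorem Ctx.hMR : bM 3 E ≤ pCore 3 G := (bM_le_bW E).trans X.hWR

theorem Ctx.j_inv : X.j⁻¹ = X.j := inv_eq_of_mul_eq_one_right X.j_mul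

theorem Ctx.jj_cancel (g : G) : X.j * (X.j * g) = g := by rw [← mul_assoc, X.j_mul, one_mul]

theorem Ctx.conj_inv {a b : G} (h : X.j * a * X.j = b) : X.j * a⁻¹ * X.j = b⁻¹ := by
  rw [← h, _root_.mul_inv_rev, _root_.mul_inv_rev, X.j_inv]; group

theorem Ctx.conj_mul (a b : G) : X.j * (a * b) * X.j = (X.j * a * X.j) * (X.j * b * X.j) := by
  simp only [mul_assoc, X.jj_cancel]

theorem Ctx.conj_conj {a b : G} (h : X.j * a * X.j = b) : X.j * b * X.j = a := by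
  rw [← h]; simp only [mul_assoc, X.jj_cancel, X.j_mul, mul_one]

theorem Ctx.conj_mem_R {r : G} (hr : r ∈ pCore 3 G) (g : G) : g * r * g⁻¹ ∈ pCore 3 G :=
  (inferInstance : (pCore 3 G).Normal).conj_mem r hr g

theorem Ctx.jrj_mem {r : G} (hr : r ∈ pCore 3 G) : X.j * r * X.j ∈ pCore 3 G := by
  have := X.conj_mem_R hr X.j
  rwa [X.j_inv] at this

theorem Ctx.odd_R {r : G} (hr : r ∈ pCore 3 G) : Odd (orderOf r) :=
  odd_orderOf_of_mem PSolvable.pCore_isPGroup (by decide) hr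

theorem Ctx.eq_one_of_sq {r : G} (hr : r ∈ pCore 3 G) (h : r * r = 1) : r = 1 := by
  obtain ⟨k, hk⟩ := X.odd_R hr
  have h1 := pow_orderOf_eq_one r
  rwa [hk, pow_succ, pow_mul, sq, h, one_pow, one_mul] at h1

theorem Ctx.eq_one_of_fix_inv {r : G} (hr : r ∈ pCore 3 G) (h1 : X.j * r * X.j = r)
    (h2 : X.j * r * X.j = r⁻¹) : r = 1 := by
  refine X.eq_one_of_sq hr ?_
  have h3 : r = r⁻¹ := h1.symm.trans h2
  conv_lhs => arg 2; rw [h3]
  exact mul_inv_cancel r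

theorem Ctx.E_commute_j {e : G} (he : e ∈ E) :
    e * X.j * e⁻¹ * X.j ∈ bQ 3 E ∧ e * (X.j * e⁻¹ * X.j) ∈ bQ 3 E := by
  have h : e * (X.j * e⁻¹ * X.j) ∈ bQ 3 E := by
    refine X.S.mem_bQ_of_mat_one X.hb
      (mul_mem he (mul_mem (mul_mem X.j_mem (inv_mem he)) X.j_mem)) ?_
    rw [X.S.mat_mul he (mul_mem (mul_mem X.j_mem (inv_mem he)) X.j_mem),
      X.S.mat_mul (mul_mem X.j_mem (inv_mem he)) X.j_mem, X.S.mat_mul X.j_mem (inv_mem he), X.j_mat,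
      show X.S.mat e⁻¹ = (X.S.mat e)⁻¹ by rw [X.S.mat_eq he, X.S.mat_eq (inv_mem he), ← map_inv]; rfl]
    simp
  refine ⟨?_, h⟩
  rwa [mul_assoc, mul_assoc, ← mul_assoc X.j]

theorem Ctx.j_fix_Z {z : G} (hz : z ∈ bZ 3 E) : X.j * z * X.j = z := by
  rw [mem_centralizer_iff.mp hz.2 X.j X.j_mem, mul_assoc, X.j_mul, mul_one]

theorem Ctx.j_inv_M {m : G} (hm : m ∈ bM 3 E) : X.j * m * X.j = m⁻¹ := by
  let Wm : Subgroup G :=
    { carrier := {w | w ∈ bW 3 E ∧ X.j * w * X.j = w⁻¹}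
      one_mem' := ⟨one_mem _, by simp [X.j_mul]⟩
      mul_mem' := fun {a b} ha hb => ⟨mul_mem ha.1 hb.1, by
        rw [X.conj_mul, ha.2, hb.2, _root_.mul_inv_rev]
        exact commute_bW (inv_mem hb.1) (bW_le E (inv_mem ha.1))⟩
      inv_mem' := fun {a} ha => ⟨inv_mem ha.1, X.conj_inv ha.2⟩ }
  suffices h : bM 3 E ≤ Wm from (h hm).2
  obtain ⟨-, hEW, -⟩ := le_normalizer_section (p := 3) E (le_normalizer (H := E))
  rw [bM, commutator_le]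
  intro w hw e he
  have hc : ∀ a ∈ bW 3 E, ∀ b ∈ bW 3 E, a * b = b * a := fun a ha b hb =>
    commute_bW hb (bW_le E ha)
  have hW' : ⁅w, e⁆ ∈ bW 3 E := bM_le_bW E (commutator_mem_commutator hw he)
  refine ⟨hW', ?_⟩
  have hjw : X.j * w * X.j * w ∈ bZ 3 E := by
    have hw' : X.j * w * X.j⁻¹ ∈ bW 3 E := (conj_mem_iff (hEW X.j_mem) w).mpr hw
    rw [X.j_inv] at hw'
    rw [← X.S.val_eq_zero (mul_mem hw' hw), X.S.val_mul hw' hw]
    have := X.S.val_conj X.j_mem hw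
    rw [X.j_inv, X.j_mat, neg_one_mulVec] at this
    rw [this, neg_add_cancel]
  obtain ⟨q, hq, hje⟩ : ∃ q ∈ bQ 3 E, X.j * e * X.j = q * e := by
    refine ⟨(e * (X.j * e⁻¹ * X.j))⁻¹, inv_mem (X.E_commute_j he).2, ?_⟩
    simp only [_root_.mul_inv_rev, inv_inv, X.j_inv]; group
  set z := X.j * w * X.j * w
  have hjw' : X.j * w * X.j = z * w⁻¹ := by simp [z]
  have hze : z * e = e * z := (mem_centralizer_iff.mp hjw.2 e he).symm
  have hje' : X.j * e⁻¹ * X.j = e⁻¹ * q⁻¹ := by rw [X.conj_inv hje, _root_.mul_inv_rev]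
  have hwe : e * w * e⁻¹ ∈ bW 3 E := (conj_mem_iff (hEW he) w).mpr hw
  rw [commutatorElement_def, X.conj_mul, X.conj_mul, X.conj_mul, hjw', hje, hje', X.conj_inv hjw']
  calc z * w⁻¹ * (q * e) * (z * w⁻¹)⁻¹ * (e⁻¹ * q⁻¹)
      = z * (w⁻¹ * q) * e * w * z⁻¹ * (e⁻¹ * q⁻¹) := by group
    _ = z * (q * w⁻¹) * e * w * z⁻¹ * (e⁻¹ * q⁻¹) := by rw [commute_bW (inv_mem hw) hq]
    _ = z * q * w⁻¹ * e * w * (z⁻¹ * e⁻¹) * q⁻¹ := by group
    _ = z * q * w⁻¹ * e * w * (e⁻¹ * z⁻¹) * q⁻¹ := by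
        rw [show z⁻¹ * e⁻¹ = (e * z)⁻¹ by group, ← hze, _root_.mul_inv_rev]
    _ = z * (q * (w⁻¹ * (e * w * e⁻¹))) * z⁻¹ * q⁻¹ := by group
    _ = z * ((w⁻¹ * (e * w * e⁻¹)) * q) * z⁻¹ * q⁻¹ := by
        rw [commute_bW (mul_mem (inv_mem hw) hwe) hq]
    _ = (z * (w⁻¹ * (e * w * e⁻¹))) * (q * z⁻¹) * q⁻¹ := by group
    _ = ((w⁻¹ * (e * w * e⁻¹)) * z) * (z⁻¹ * q) * q⁻¹ := by
        rw [commute_bW (inv_mem hjw.1) hq, hc _ (hjw.1) _ (mul_mem (inv_mem hw) hwe)]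
    _ = w⁻¹ * (e * w * e⁻¹) := by group
    _ = (e * w * e⁻¹) * w⁻¹ := hc _ (inv_mem hw) _ hwe
    _ = (w * e * w⁻¹ * e⁻¹)⁻¹ := by group

theorem Ctx.eq_one_of_mem_M_Z {x : G} (hm : x ∈ bM 3 E) (hz : x ∈ bZ 3 E) : x = 1 :=
  X.eq_one_of_fix_inv (X.hMR hm) (X.j_fix_Z hz) (X.j_inv_M hm)

theorem Ctx.mem_M_of_inv {w : G} (hw : w ∈ bW 3 E) (h : X.j * w * X.j = w⁻¹) : w ∈ bM 3 E := by
  obtain ⟨m, hm, z, hz, rfl⟩ := exists_mul_bZ X.hb hw
  rw [X.conj_mul, X.j_inv_M hm, X.j_fix_Z hz, _root_.mul_inv_rev,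
    commute_bW (inv_mem (bM_le_bW E hm)) (bW_le E (inv_mem hz.1))] at h
  have h' : z = 1 := X.eq_one_of_fix_inv (X.hWR hz.1) (X.j_fix_Z hz)
    ((X.j_fix_Z hz).trans (mul_left_cancel h))
  rw [h', mul_one]
  exact hm

theorem Ctx.mem_Z_of_fix {w : G} (hw : w ∈ bW 3 E) (h : X.j * w * X.j = w) : w ∈ bZ 3 E := by
  obtain ⟨m, hm, z, hz, rfl⟩ := exists_mul_bZ X.hb hw
  rw [X.conj_mul, X.j_inv_M hm, X.j_fix_Z hz] at h
  have h' : m = 1 := X.eq_one_of_fix_inv (X.hMR hm)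
    ((X.j_inv_M hm).trans (mul_right_cancel h)) (X.j_inv_M hm)
  rw [h', one_mul]
  exact hz

theorem Ctx.R_trivOn : ∀ r ∈ pCore 3 G, TrivOn (bQ 3 E) (bW 3 E) r := by
  obtain ⟨-, ⟨hirr, -, hne⟩, -⟩ := X.hb.exceptional X.hQW
  set R := pCore 3 G
  have hRE := X.hb.pCore_le_normalizer
  obtain ⟨hRQ, hRW, -⟩ := le_normalizer_section (p := 3) E hRE
  obtain ⟨hEQ, hEW, -⟩ := le_normalizer_section (p := 3) E (le_normalizer (H := E))
  have hstep : ∀ q ∈ bQ 3 E, ∀ w ∈ bW 3 E, q * w * q⁻¹ = w := fun q hq w hw => by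
    rw [commute_bW hw hq, mul_inv_cancel_right]
  let Sq : Subgroup G :=
    { carrier := {q | q ∈ bQ 3 E ∧ ∀ r ∈ R, r * q * r⁻¹ * q⁻¹ ∈ bW 3 E}
      one_mem' := ⟨one_mem _, fun r _ => by simp [one_mem]⟩
      mul_mem' := fun {a b} ha hb => ⟨mul_mem ha.1 hb.1, fun r hr => by
        have h1 := (bW 3 E).mul_mem (ha.2 r hr) (hb.2 r hr)
        convert h1 using 1
        calc r * (a * b) * r⁻¹ * (a * b)⁻¹
            = (r * a * r⁻¹ * a⁻¹) * (a * (r * b * r⁻¹ * b⁻¹) * a⁻¹) := by group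
          _ = _ := by rw [hstep a ha.1 _ (hb.2 r hr)]⟩
      inv_mem' := fun {a} ha => ⟨inv_mem ha.1, fun r hr => by
        have h1 := (bW 3 E).inv_mem (ha.2 r hr)
        convert h1 using 1
        calc r * a⁻¹ * r⁻¹ * a⁻¹⁻¹ = a⁻¹ * (r * a * r⁻¹ * a⁻¹)⁻¹ * a⁻¹⁻¹ := by group
          _ = _ := hstep _ (inv_mem ha.1) _ h1⟩ }
  have hES : E ≤ normalizer (Sq : Set G) := Coprime.le_normalizer_of_conj_mem fun e he q hq => by
    refine ⟨(conj_mem_iff (hEQ he) q).mpr hq.1, fun r hr => ?_⟩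
    have h1 := hq.2 (e⁻¹ * r * e⁻¹⁻¹) (X.conj_mem_R hr e⁻¹)
    have h2 := (conj_mem_iff (hEW he) _).mpr h1
    convert h2 using 1
    group
  rcases hirr Sq (fun w hw => ⟨bW_le E hw, fun r hr =>
    mul_mem ((conj_mem_iff (hRW hr) w).mpr hw) (inv_mem hw)⟩) (fun q hq => hq.1) hES with h | h
  · exfalso
    have hsn : ∀ r : R, (r : G) ∈ secNormalizer E (bQ 3 E) (bW 3 E) := fun r =>
      mem_secNormalizer₂ (hRE r.2)
    let act : MulAction R (Fin 2 → F) :=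
      { smul := fun r v => X.S₂.act (r : G) v
        one_smul := fun v => X.S₂.act_one v
        mul_smul := fun a b v => X.S₂.act_mul (hsn a) (hsn b) v }
    have hdvd : 3 ∣ Nat.card (Fin 2 → F) := by
      obtain ⟨k, -, hk⟩ := FiniteField.card F 3
      rw [Nat.card_fun, Nat.card_eq_fintype_card, Nat.card_eq_fintype_card, hk, ← pow_mul,
        Fintype.card_fin]
      exact dvd_pow_self 3 (by positivity)
    obtain ⟨v, hv, hv0⟩ := (PSolvable.pCore_isPGroup (p := 3) (G := G))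
      |>.exists_fixed_point_of_prime_dvd_card_of_fixed_point (Fin 2 → F) hdvd (a := 0)
        (fun r => map_zero (AddMonoidHom.mk' (X.S₂.act (r : G)) (X.S₂.act_add (hsn r))))
    obtain ⟨x, hx, rfl⟩ := X.S₂.exists_val v
    refine hv0 ((X.S₂.val_eq_zero hx).mpr (h.le ⟨hx, fun r hr => ?_⟩)).symm
    refine (X.S₂.val_eq_iff ((conj_mem_iff (hRQ hr) x).mpr hx) hx).mp ?_
    rw [← X.S₂.act_val (hsn ⟨r, hr⟩) hx]
    exact hv ⟨r, hr⟩
  · exact fun r hr q hq => (h.ge hq).2 r hr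

/-- `O_3(G)` centralises `W`. -/
theorem Ctx.R_fix_W {r w : G} (hr : r ∈ pCore 3 G) (hw : w ∈ bW 3 E) : r * w = w * r := by
  obtain ⟨m, hm, z, hz, rfl⟩ := exists_mul_bZ X.hb hw
  have h1 : r * m = m * r :=
    mem_centralizer_iff.mp ((omegaOneCenter_props 3 _).2.1 (bM_le_bU X.hG X.hb hm)) r hr
  have h2 : r * z = z * r := mul_inv_eq_iff_eq_mul.mp
    (Sub.fix_bZ_of_trivOn X.hb X.hQW (X.R_trivOn r hr) z hz)
  rw [← mul_assoc, h1, mul_assoc, h2, mul_assoc]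

theorem Ctx.R_conj_W {r w : G} (hr : r ∈ pCore 3 G) (hw : w ∈ bW 3 E) : r * w * r⁻¹ = w := by
  rw [X.R_fix_W hr hw, mul_inv_cancel_right]

/-- The fixed points of the involution in `O_3(G)`. -/
def Ctx.Rp : Subgroup G := pCore 3 G ⊓ centralizer ({X.j} : Set G)

theorem Ctx.mem_Rp {r : G} : r ∈ X.Rp ↔ r ∈ pCore 3 G ∧ X.j * r * X.j = r := by
  rw [Ctx.Rp, mem_inf, mem_centralizer_singleton_iff]
  refine and_congr_right fun _ => ?_
  constructor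
  · intro h
    rw [← h, mul_assoc, X.j_mul, mul_one]
  · intro h
    conv_lhs => rw [← h]
    rw [mul_assoc, X.j_mul, mul_one]

theorem Ctx.Z_le_Rp : bZ 3 E ≤ X.Rp := fun _ hz => X.mem_Rp.mpr ⟨X.hWR hz.1, X.j_fix_Z hz⟩

theorem Ctx.inv_mem_Q {x : G} (hx : x ∈ pCore 3 G) (h : X.j * x * X.j = x⁻¹) : x ∈ bQ 3 E := by
  have hxx : x * x ∈ bQ 3 E := by
    have := (X.hb.commutator_mem_bQ X.j_mem hx).1
    rw [commutatorElement_def, X.j_inv, h] at this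
    have h2 := inv_mem this
    rwa [_root_.mul_inv_rev, inv_inv] at h2
  obtain ⟨k, hk⟩ := X.odd_R hx
  have : x = (x * x) ^ (k + 1) := by
    rw [← sq, ← pow_mul, show 2 * (k + 1) = orderOf x + 1 by omega, pow_succ, pow_orderOf_eq_one,
      one_mul]
  rw [this]
  exact pow_mem hxx _

theorem Ctx.fix_mem_Z {y : G} (hy : y ∈ bQ 3 E) (h : X.j * y * X.j = y) : y ∈ bZ 3 E := by
  refine X.mem_Z_of_fix ?_ h
  rw [← X.S₂.val_eq_zero hy]
  have h1 := X.S₂.val_conj X.j_mem hy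
  rw [X.j_inv, h, X.j_mat₂, neg_one_mulVec] at h1
  have h2 : (2 : F) • X.S₂.val y = 0 := by
    rw [two_smul]
    exact add_eq_zero_iff_eq_neg.mpr h1
  exact (smul_eq_zero.mp h2).resolve_left two_ne_zero'

/-- Every element of `O_3(G)` is an inverted element times a fixed one. -/
theorem Ctx.decomp {r : G} (hr : r ∈ pCore 3 G) :
    ∃ x ∈ bQ 3 E, X.j * x * X.j = x⁻¹ ∧ ∃ y ∈ X.Rp, r = x * y := by
  have hc : r * (X.j * r⁻¹ * X.j) ∈ pCore 3 G := mul_mem hr (X.jrj_mem (inv_mem hr))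
  obtain ⟨x, hx, hjx, hjy⟩ := exists_inv_mul_fix X.j_mul (X.odd_R hc)
  have hxR : x ∈ pCore 3 G := zpowers_le.mpr hc hx
  exact ⟨x, X.inv_mem_Q hxR hjx, hjx, x⁻¹ * r,
    X.mem_Rp.mpr ⟨mul_mem (inv_mem hxR) hr, hjy⟩, by group⟩

/-- Every element of `O_3(E)` is an inverted element times one of `Z`. -/
theorem Ctx.decompQ {q : G} (hq : q ∈ bQ 3 E) :
    ∃ x ∈ bQ 3 E, X.j * x * X.j = x⁻¹ ∧ ∃ z ∈ bZ 3 E, q = x * z := by
  obtain ⟨x, hx, hjx, y, hy, rfl⟩ := X.decomp (X.hQR hq)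
  have hyQ : y ∈ bQ 3 E := by
    have := mul_mem (inv_mem hx) hq
    rwa [inv_mul_cancel_left] at this
  exact ⟨x, hx, hjx, y, X.fix_mem_Z hyQ (X.mem_Rp.mp hy).2, rfl⟩

/-- Commutators of inverted and fixed elements lie in `M`. -/
theorem Ctx.comm_mem_M {x y : G} (hx : x ∈ bQ 3 E) (hjx : X.j * x * X.j = x⁻¹) (hy : y ∈ X.Rp) :
    x * y * x⁻¹ * y⁻¹ ∈ bM 3 E := by
  obtain ⟨hyR, hjy⟩ := X.mem_Rp.mp hy
  have hw : x * y * x⁻¹ * y⁻¹ ∈ bW 3 E := by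
    have := inv_mem (X.R_trivOn y hyR x hx)
    convert this using 1
    group
  refine X.mem_M_of_inv hw ?_
  set w := x * y * x⁻¹ * y⁻¹ with hwdef
  have h1 : X.j * w * X.j = x⁻¹ * y * x * y⁻¹ := by
    rw [hwdef, X.conj_mul, X.conj_mul, X.conj_mul, hjx, hjy, X.conj_inv hjx, inv_inv,
      X.conj_inv hjy]
  rw [h1]
  have h2 : x * y = w * y * x := by rw [hwdef]; group
  calc x⁻¹ * y * x * y⁻¹ = x⁻¹ * (w⁻¹ * (w * y * x)) * y⁻¹ := by group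
    _ = x⁻¹ * (w⁻¹ * (x * y)) * y⁻¹ := by rw [← h2]
    _ = x⁻¹ * w⁻¹ * x := by group
    _ = w⁻¹ := by rw [mul_assoc, ← X.R_fix_W (X.hQR hx) (inv_mem hw), inv_mul_cancel_left]

/-- The elements of the block commuting with the involution and fixing its fixed points. -/
def Ctx.E1 : Subgroup G := E ⊓ centralizer ({X.j} : Set G) ⊓ centralizer (X.Rp : Set G)

theorem Ctx.coprime_fix_Rp {e : G} (he : e ∈ E) (hj : X.j * e * X.j = e)
    (hco : (orderOf e).Coprime 3) : ∀ r ∈ X.Rp, e * r * e⁻¹ = r := by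
  intro r hr
  obtain ⟨hrR, hjr⟩ := X.mem_Rp.mp hr
  have ht : e * r * e⁻¹ * r⁻¹ ∈ bZ 3 E := by
    refine X.fix_mem_Z (X.hb.commutator_mem_bQ he hrR).1 ?_
    simp only [commutatorElement_def, X.conj_mul, hj, hjr, X.conj_inv hj, X.conj_inv hjr]
  refine fix_of_step (isPGroup_bQ E) hco (r := e * r * e⁻¹ * r⁻¹) ?_ ?_ (bW_le E ht.1)
  · rw [X.R_fix_W hrR ht.1]; group
  · rw [mem_centralizer_iff.mp ht.2 e he, mul_inv_cancel_right]

theorem Ctx.exists_E1 {e : G} (he : e ∈ E) : ∃ y ∈ X.E1, y⁻¹ * e ∈ bQ 3 E := by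
  have hnorm : X.E1 ≤ normalizer (bQ 3 E : Set G) :=
    inf_le_left.trans (inf_le_left.trans (bQ_normal E))
  have hle : E ≤ X.E1 ⊔ bQ 3 E := by
    conv_lhs => rw [← X.hb.eq_closure]
    rw [closure_le]
    rintro e ⟨he, hco⟩
    have hc : e * (X.j * e⁻¹ * X.j) ∈ bQ 3 E := (X.E_commute_j he).2
    obtain ⟨x, hx, -, hjy⟩ := exists_inv_mul_fix X.j_mul (X.odd_R (X.hQR hc))
    have hxQ : x ∈ bQ 3 E := zpowers_le.mpr hc hx
    have hxE : x ∈ E := Amalgam.pCoreOf_le 3 E hxQ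
    set y := x⁻¹ * e with hy
    have hyE : y ∈ E := mul_mem (inv_mem hxE) he
    obtain ⟨k, hk⟩ := exists_coprime_pow 3 y
    have hjk : X.j * y ^ 3 ^ k * X.j = y ^ 3 ^ k := by
      have h := conj_pow (i := 3 ^ k) (a := X.j) (b := y)
      rw [X.j_inv, hjy] at h
      exact h.symm
    have hy' : y ^ 3 ^ k ∈ X.E1 := by
      refine ⟨⟨pow_mem hyE _, mem_centralizer_singleton_iff.mpr ?_⟩, mem_centralizer_iff.mpr ?_⟩
      · conv_lhs => rw [← hjk]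
        rw [mul_assoc, X.j_mul, mul_one]
      · intro r hr
        exact (mul_inv_eq_iff_eq_mul.mp (X.coprime_fix_Rp (pow_mem hyE _) hjk hk r hr)).symm
    have hek : (y ^ 3 ^ k)⁻¹ * e ^ 3 ^ k ∈ bQ 3 E := by
      have hmat : X.S.mat y = X.S.mat e := by
        rw [hy, X.S.mat_mul (inv_mem hxE) he, X.S.mat_eq_one (inv_mem hxQ), one_mul]
      have hpow : ∀ n : ℕ, X.S.mat (y ^ n) = X.S.mat (e ^ n) := by
        intro n
        induction n with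
        | zero => rw [pow_zero, pow_zero]
        | succ n ih => rw [pow_succ, pow_succ, X.S.mat_mul (pow_mem hyE n) hyE,
            X.S.mat_mul (pow_mem he n) he, ih, hmat]
      have hyk : y ^ 3 ^ k ∈ E := pow_mem hyE _
      refine X.S.mem_bQ_of_mat_one X.hb (mul_mem (inv_mem hyk) (pow_mem he _)) ?_
      rw [X.S.mat_mul (inv_mem hyk) (pow_mem he _), ← hpow,
        ← X.S.mat_mul (inv_mem hyk) hyk, inv_mul_cancel, X.S.mat_eq (one_mem E)]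
      exact map_one X.S.ρ
    obtain ⟨i, hi⟩ := exists_pow_eq_self_of_coprime (x := e) (n := 3 ^ k)
      (Nat.Coprime.pow_left k hco.symm)
    rw [SetLike.mem_coe, ← hi]
    refine pow_mem ?_ i
    have := mul_mem_sup hy' hek
    rwa [mul_inv_cancel_left] at this
  have he' : e ∈ ((X.E1 ⊔ bQ 3 E : Subgroup G) : Set G) := hle he
  rw [coe_mul_of_left_le_normalizer_right _ _ hnorm] at he'
  obtain ⟨y, hy, q, hq, rfl⟩ := he'
  exact ⟨y, hy, by simpa using hq⟩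

theorem Ctx.mem_E1 {e : G} :
    e ∈ X.E1 ↔ e ∈ E ∧ X.j * e * X.j = e ∧ ∀ r ∈ X.Rp, e * r * e⁻¹ = r := by
  rw [Ctx.E1, mem_inf, mem_inf, mem_centralizer_singleton_iff, mem_centralizer_iff]
  constructor
  · rintro ⟨⟨h1, h2⟩, h3⟩
    refine ⟨h1, ?_, fun r hr => mul_inv_eq_iff_eq_mul.mpr (h3 r hr).symm⟩
    rw [← h2, mul_assoc, X.j_mul, mul_one]
  · rintro ⟨h1, h2, h3⟩
    refine ⟨⟨h1, ?_⟩, fun r hr => (mul_inv_eq_iff_eq_mul.mp (h3 r hr)).symm⟩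
    conv_lhs => rw [← h2]
    rw [mul_assoc, X.j_mul, mul_one]

theorem Ctx.j_mem_E1 : X.j ∈ X.E1 := by
  refine X.mem_E1.mpr ⟨X.j_mem, by rw [X.j_mul, one_mul], fun r hr => ?_⟩
  rw [X.j_inv]
  exact (X.mem_Rp.mp hr).2

/-- `E` acts trivially on `Rp W / M`. -/
theorem Ctx.E_le_trivSub : E ≤ trivSub (X.Rp ⊔ bW 3 E) (bM 3 E) := by
  have hM : E ≤ normalizer (bM 3 E : Set G) := le_normalizer_bM le_normalizer
  have hWc : X.Rp ≤ normalizer (bW 3 E : Set G) := fun r hr => by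
    refine mem_normalizer_iff.mpr fun w => ⟨fun hw => ?_, fun hw => ?_⟩
    · rwa [X.R_conj_W hr.1 hw]
    · have := X.R_conj_W (inv_mem hr.1) hw
      rw [show r⁻¹ * (r * w * r⁻¹) * r⁻¹⁻¹ = w by group] at this
      rwa [this]
  have key : ∀ e ∈ E, ∀ k ∈ X.Rp ⊔ bW 3 E, e * k * e⁻¹ * k⁻¹ ∈ bM 3 E := by
    intro e he k hk
    have hk' : k ∈ ((X.Rp ⊔ bW 3 E : Subgroup G) : Set G) := hk
    rw [coe_mul_of_left_le_normalizer_right _ _ hWc] at hk'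
    obtain ⟨r, hr, w, hw, rfl⟩ := hk'
    have ha : e * w * e⁻¹ * w⁻¹ ∈ bM 3 E := by
      have h := inv_mem (commutator_mem_commutator hw he)
      rwa [commutatorElement_inv, commutatorElement_def] at h
    have hrR : r ∈ pCore 3 G := (X.mem_Rp.mp hr).1
    have hb : e * r * e⁻¹ * r⁻¹ ∈ bM 3 E := by
      obtain ⟨y, hy, hq⟩ := X.exists_E1 he
      obtain ⟨x, hx, hjx, z, hz, hxz⟩ := X.decompQ hq
      have he' : e = y * x * z := by rw [mul_assoc, ← hxz, mul_inv_cancel_left]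
      obtain ⟨hyE, -, hyfix⟩ := X.mem_E1.mp hy
      have hzr : z * r * z⁻¹ = r := by rw [← X.R_fix_W hrR hz.1, mul_inv_cancel_right]
      have h1 := (conj_mem_iff (hM hyE) _).mpr (X.comm_mem_M hx hjx hr)
      convert h1 using 1
      calc e * r * e⁻¹ * r⁻¹ = y * x * (z * r * z⁻¹) * x⁻¹ * y⁻¹ * r⁻¹ := by rw [he']; group
        _ = y * (x * r * x⁻¹ * r⁻¹) * y⁻¹ * ((y * r * y⁻¹) * r⁻¹) := by rw [hzr]; group
        _ = y * (x * r * x⁻¹ * r⁻¹) * y⁻¹ := by rw [hyfix r hr, mul_inv_cancel, mul_one]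
    have := (bM 3 E).mul_mem hb ha
    convert this using 1
    calc e * (r * w) * e⁻¹ * (r * w)⁻¹
        = (e * r * e⁻¹) * (e * w * e⁻¹ * w⁻¹) * r⁻¹ := by group
      _ = (e * r * e⁻¹ * r⁻¹) * (r * (e * w * e⁻¹ * w⁻¹) * r⁻¹) := by group
      _ = _ := by rw [X.R_conj_W hrR (bM_le_bW E ha)]
  suffices hn : E ≤ normalizer ((X.Rp ⊔ bW 3 E : Subgroup G) : Set G) from fun e he => ⟨⟨hn he, hM he⟩, key e he⟩
  refine Coprime.le_normalizer_of_conj_mem fun e he k hk => ?_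
  have := mul_mem (mem_sup_right (S := X.Rp) (bM_le_bW E (key e he k hk))) hk
  rwa [inv_mul_cancel_right] at this

/-- A criterion for triviality on `O_3(G) / M`. -/
theorem Ctx.trivOn_of {g : G} (hfix : ∀ r ∈ X.Rp, g * r * g⁻¹ = r)
    (hcomm : ∀ x ∈ bQ 3 E, X.j * x * X.j = x⁻¹ →
      X.j * (g * x * g⁻¹) * X.j = g * x⁻¹ * g⁻¹)
    (hQ : TrivOn (bQ 3 E) (bW 3 E) g) : TrivOn (pCore 3 G) (bM 3 E) g := by
  intro r hr
  obtain ⟨x, hx, hjx, y, hy, rfl⟩ := X.decomp hr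
  have hw : g * x * g⁻¹ * x⁻¹ ∈ bW 3 E := hQ x hx
  have hM : g * x * g⁻¹ * x⁻¹ ∈ bM 3 E := by
    refine X.mem_M_of_inv hw ?_
    set w := g * x * g⁻¹ * x⁻¹ with hwdef
    rw [hwdef, X.conj_mul, hcomm x hx hjx, X.conj_inv hjx, inv_inv]
    calc g * x⁻¹ * g⁻¹ * x = x⁻¹ * (g * x * g⁻¹ * x⁻¹)⁻¹ * x := by group
      _ = w⁻¹ := by rw [← hwdef, mul_assoc, ← X.R_fix_W (X.hQR hx) (inv_mem hw),
            inv_mul_cancel_left]
      _ = (g * x * g⁻¹ * x⁻¹)⁻¹ := by rw [hwdef]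
  convert hM using 1
  calc g * (x * y) * g⁻¹ * (x * y)⁻¹ = (g * x * g⁻¹) * ((g * y * g⁻¹) * y⁻¹) * x⁻¹ := by group
    _ = g * x * g⁻¹ * x⁻¹ := by rw [hfix y hy, mul_inv_cancel, mul_one]

end Cfsg.Agent.Lib.BTBlock.Cent
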