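import Cfsg.Agent.Lib.BTBlock.Cent.Ctx

/-!
# Elements commuting with the involution on `O_3(G)` and the commutator form
-/

set_option autoImplicit false

namespace Cfsg.Agent.Lib.BTBlock.Cent

open Subgroup Cfsg Sub Subn Matrix Cfsg.Agent.Lib.SL2
open scoped commutatorElement

universe u

variable {G : Type u} [Group G] [Finite G] [Fact (Nat.Prime 3)]
variable {T : Sylow 3 G} {E : Subgroup G} {F : Type} [Field F] [Fintype F] [CharP F 3]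
  (X : Ctx T E F)

include X

/-- Elements of `N(M)` commuting with the involution on `O_3(G)`. -/
def Ctx.J1 : Subgroup G where
  carrier := {g | g ∈ normalizer (bM 3 E : Set G) ∧
    ∀ r ∈ pCore 3 G, g * (X.j * r * X.j) * g⁻¹ = X.j * (g * r * g⁻¹) * X.j}
  one_mem' := ⟨one_mem _, fun r _ => by simp⟩
  mul_mem' := fun {a b} ha hb => ⟨mul_mem ha.1 hb.1, fun r hr => by
    calc a * b * (X.j * r * X.j) * (a * b)⁻¹ = a * (b * (X.j * r * X.j) * b⁻¹) * a⁻¹ := by group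
      _ = a * (X.j * (b * r * b⁻¹) * X.j) * a⁻¹ := by rw [hb.2 r hr]
      _ = X.j * (a * (b * r * b⁻¹) * a⁻¹) * X.j := ha.2 _ (X.conj_mem_R hr b)
      _ = _ := by group⟩
  inv_mem' := fun {a} ha => ⟨inv_mem ha.1, fun r hr => by
    have h := ha.2 _ (X.conj_mem_R hr a⁻¹)
    rw [show a * (a⁻¹ * r * a⁻¹⁻¹) * a⁻¹ = r by group] at h
    calc a⁻¹ * (X.j * r * X.j) * a⁻¹⁻¹
        = a⁻¹ * (a * (X.j * (a⁻¹ * r * a⁻¹⁻¹) * X.j) * a⁻¹) * a⁻¹⁻¹ := by rw [h]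
      _ = _ := by group⟩

/-- The elements of `J1` fixing the fixed points. -/
def Ctx.K1 : Subgroup G where
  carrier := {g | g ∈ X.J1 ∧ ∀ r ∈ X.Rp, g * r * g⁻¹ = r}
  one_mem' := ⟨one_mem _, fun r _ => by simp⟩
  mul_mem' := fun {a b} ha hb => ⟨mul_mem ha.1 hb.1, fun r hr => by
    rw [show a * b * r * (a * b)⁻¹ = a * (b * r * b⁻¹) * a⁻¹ by group, hb.2 r hr, ha.2 r hr]⟩
  inv_mem' := fun {a} ha => ⟨inv_mem ha.1, fun r hr => by
    conv_lhs => rw [← ha.2 r hr]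
    group⟩

theorem Ctx.mem_J1_of_commute {g : G} (hM : g ∈ normalizer (bM 3 E : Set G))
    (hj : X.j * g * X.j = g) : g ∈ X.J1 := by
  refine ⟨hM, fun r hr => ?_⟩
  rw [X.conj_mul, X.conj_mul, hj, X.conj_inv hj]

theorem Ctx.E1_le_K1 : X.E1 ≤ X.K1 := fun e he => by
  obtain ⟨heE, hej, hfix⟩ := X.mem_E1.mp he
  exact ⟨X.mem_J1_of_commute (le_normalizer_bM le_normalizer heE) hej, hfix⟩

theorem Ctx.J1_Rp {g y : G} (hg : g ∈ X.J1) (hy : y ∈ X.Rp) : g * y * g⁻¹ ∈ X.Rp := by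
  obtain ⟨hyR, hjy⟩ := X.mem_Rp.mp hy
  refine X.mem_Rp.mpr ⟨X.conj_mem_R hyR g, ?_⟩
  rw [← hg.2 y hyR, hjy]

theorem Ctx.J1_inv {g x : G} (hg : g ∈ X.J1) (hx : x ∈ bQ 3 E) (hjx : X.j * x * X.j = x⁻¹) :
    g * x * g⁻¹ ∈ bQ 3 E ∧ X.j * (g * x * g⁻¹) * X.j = (g * x * g⁻¹)⁻¹ := by
  have h : X.j * (g * x * g⁻¹) * X.j = (g * x * g⁻¹)⁻¹ := by
    rw [← hg.2 x (X.hQR hx), hjx]; group
  exact ⟨X.inv_mem_Q (X.conj_mem_R (X.hQR hx) g) h, h⟩

theorem Ctx.fix_Z_of_K1 {g z : G} (hg : g ∈ X.K1) (hz : z ∈ bZ 3 E) : g * z * g⁻¹ = z :=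
  hg.2 z (X.Z_le_Rp hz)

theorem Ctx.commutator_inverted {a b : G} (ha : a ∈ bQ 3 E) (hb : b ∈ bQ 3 E) {z z' : G}
    (hz : z ∈ bZ 3 E) (hz' : z' ∈ bZ 3 E) : ⁅a * z, b * z'⁆ = ⁅a, b⁆ := by
  have c : ∀ q ∈ bQ 3 E, ∀ w ∈ bZ 3 E, q * w = w * q := fun q hq w hw => commute_bW hw.1 hq
  have hzQ : z ∈ bQ 3 E := bW_le E hz.1
  simp only [commutatorElement_def]
  calc a * z * (b * z') * (a * z)⁻¹ * (b * z')⁻¹
      = a * (z * b) * (z' * z⁻¹) * a⁻¹ * (z'⁻¹ * b⁻¹) := by group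
    _ = a * (b * z) * (z⁻¹ * z') * a⁻¹ * (z'⁻¹ * b⁻¹) := by rw [c b hb z hz, c _ (inv_mem hzQ) z' hz']
    _ = a * b * (z' * a⁻¹) * (z'⁻¹ * b⁻¹) := by group
    _ = a * b * (a⁻¹ * z') * (z'⁻¹ * b⁻¹) := by rw [c _ (inv_mem ha) z' hz']
    _ = a * b * a⁻¹ * b⁻¹ := by group

theorem Ctx.J1_normalizes_Q {g q : G} (hg : g ∈ X.J1) (hq : q ∈ bQ 3 E) :
    g * q * g⁻¹ ∈ bQ 3 E := by
  obtain ⟨x, hx, hjx, z, hz, rfl⟩ := X.decompQ hq
  have hz' : g * z * g⁻¹ ∈ bQ 3 E := by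
    have h : bZ 3 E ≤ (bQ 3 E).comap (MulAut.conj g).toMonoidHom := by
      rw [← X.hder, commutator_le]
      intro a ha b hb
      obtain ⟨a', ha', hja, za, hza, rfl⟩ := X.decompQ ha
      obtain ⟨b', hb', hjb, zb, hzb, rfl⟩ := X.decompQ hb
      rw [X.commutator_inverted ha' hb' hza hzb, mem_comap]
      have h1 := X.J1_inv hg ha' hja
      have h2 := X.J1_inv hg hb' hjb
      simp only [MulEquiv.toMonoidHom_eq_coe, MonoidHom.coe_coe,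
        MulAut.conj_apply, commutatorElement_def]
      rw [show g * (a' * b' * a'⁻¹ * b'⁻¹) * g⁻¹ = (g * a' * g⁻¹) * (g * b' * g⁻¹) *
        (g * a' * g⁻¹)⁻¹ * (g * b' * g⁻¹)⁻¹ by group]
      exact mul_mem (mul_mem (mul_mem h1.1 h2.1) (inv_mem h1.1)) (inv_mem h2.1)
    exact h hz
  rw [show g * (x * z) * g⁻¹ = (g * x * g⁻¹) * (g * z * g⁻¹) by group]
  exact mul_mem (X.J1_inv hg hx hjx).1 hz'

theorem Ctx.J1_le_normalizer : X.J1 ≤ normalizer (bQ 3 E : Set G) ∧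
    X.J1 ≤ normalizer (bW 3 E : Set G) := by
  have h1 : X.J1 ≤ normalizer (bQ 3 E : Set G) :=
    Coprime.le_normalizer_of_conj_mem fun g hg q hq => X.J1_normalizes_Q hg hq
  refine ⟨h1, fun x hx => ?_⟩
  have hm := Amalgam.map_conj_eq_of_mem_normalizer (h1 hx)
  refine Amalgam.mem_normalizer_of_map_conj_eq ?_
  rw [bW, omegaOneCenter, ← Amalgam.omegaOne_map' _ (MulAut.conj x).injective,
    Amalgam.inf_centralizer_map _ _ (MulAut.conj x).injective, hm]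

theorem Ctx.J1_fix_W {g w : G} (hM : g ∈ centralizer (bM 3 E : Set G))
    (hZ : ∀ z ∈ bZ 3 E, g * z * g⁻¹ = z) (hw : w ∈ bW 3 E) : g * w * g⁻¹ = w := by
  obtain ⟨m, hm, z, hz, rfl⟩ := exists_mul_bZ X.hb hw
  rw [show g * (m * z) * g⁻¹ = (g * m * g⁻¹) * (g * z * g⁻¹) by group, hZ z hz,
    ← mem_centralizer_iff.mp hM m hm, mul_inv_cancel_right]

/-- The action on `Q / W`. -/
theorem Ctx.act_val {g : G} (hQ : g ∈ normalizer (bQ 3 E : Set G))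
    (hW : g ∈ normalizer (bW 3 E : Set G)) {x : G} (hx : x ∈ bQ 3 E) :
    X.S₂.act g (X.S₂.val x) = X.S₂.val (g * x * g⁻¹) := by
  obtain ⟨hy, hyx⟩ := (X.S₂.exists_val (X.S₂.val x)).choose_spec
  set y := (X.S₂.exists_val (X.S₂.val x)).choose
  show X.S₂.val (g * y * g⁻¹) = _
  rw [X.S₂.val_eq_iff ((conj_mem_iff hQ y).mpr hy) ((conj_mem_iff hQ x).mpr hx)]
  have h1 := (conj_mem_iff hW _).mpr ((X.S₂.val_eq_iff hy hx).mp hyx)
  convert h1 using 1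
  group

theorem Ctx.act_add {g : G} (hQ : g ∈ normalizer (bQ 3 E : Set G))
    (hW : g ∈ normalizer (bW 3 E : Set G)) (v w : Fin 2 → F) :
    X.S₂.act g (v + w) = X.S₂.act g v + X.S₂.act g w := by
  obtain ⟨x, hx, rfl⟩ := X.S₂.exists_val v
  obtain ⟨y, hy, rfl⟩ := X.S₂.exists_val w
  rw [← X.S₂.val_mul hx hy, X.act_val hQ hW hx, X.act_val hQ hW hy,
    X.act_val hQ hW (mul_mem hx hy),
    ← X.S₂.val_mul ((conj_mem_iff hQ x).mpr hx) ((conj_mem_iff hQ y).mpr hy)]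
  congr 1
  group

theorem Ctx.act_mul {g h : G} (hgQ : g ∈ normalizer (bQ 3 E : Set G))
    (hgW : g ∈ normalizer (bW 3 E : Set G)) (hhQ : h ∈ normalizer (bQ 3 E : Set G))
    (hhW : h ∈ normalizer (bW 3 E : Set G)) (v : Fin 2 → F) :
    X.S₂.act (g * h) v = X.S₂.act g (X.S₂.act h v) := by
  obtain ⟨x, hx, rfl⟩ := X.S₂.exists_val v
  rw [X.act_val hhQ hhW hx, X.act_val hgQ hgW ((conj_mem_iff hhQ x).mpr hx),
    X.act_val (mul_mem hgQ hhQ) (mul_mem hgW hhW) hx]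
  congr 1
  group

theorem Ctx.act_E {e : G} (he : e ∈ E) (v : Fin 2 → F) :
    X.S₂.act e v = (X.S₂.mat e : Matrix (Fin 2) (Fin 2) F).mulVec v := by
  obtain ⟨hEQ, hEW, -⟩ := le_normalizer_section (p := 3) E (le_normalizer (H := E))
  exact X.S₂.act_mat hEW he v

/-- An element normalising `Q` and fixing `Z` preserves the determinant on `Q / W`. -/
theorem Ctx.det_preserved {g : G} (hQ : g ∈ normalizer (bQ 3 E : Set G))
    (hW : g ∈ normalizer (bW 3 E : Set G)) (hZ : ∀ z ∈ bZ 3 E, g * z * g⁻¹ = z)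
    (v w : Fin 2 → F) : det2 (X.S₂.act g v) (X.S₂.act g w) = det2 v w := by
  classical
  have hcomm : ∀ a ∈ bZ 3 E, ∀ b ∈ bZ 3 E, a * b = b * a := fun a ha b hb =>
    commute_bW hb.1 (bW_le E ha.1)
  letI : CommGroup ↥(bZ 3 E) := { (inferInstance : Group ↥(bZ 3 E)) with
    mul_comm := fun a b => Subtype.ext (hcomm a a.2 b b.2) }
  choose rep hrepQ hrep using X.S₂.exists_val
  have hmem : ∀ a b, a ∈ bQ 3 E → b ∈ bQ 3 E → ⁅a, b⁆ ∈ bZ 3 E := fun a b ha hb =>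
    X.hder.le (commutator_mem_commutator ha hb)
  let β : (Fin 2 → F) → (Fin 2 → F) → Additive ↥(bZ 3 E) := fun v w =>
    Additive.ofMul ⟨⁅rep v, rep w⁆, hmem _ _ (hrepQ v) (hrepQ w)⟩
  have hβ : ∀ a (ha : a ∈ bQ 3 E) b (hb : b ∈ bQ 3 E), β (X.S₂.val a) (X.S₂.val b) =
      Additive.ofMul ⟨⁅a, b⁆, hmem a b ha hb⟩ := by
    intro a ha b hb
    have key : ∀ a' ∈ bQ 3 E, ∀ b' ∈ bQ 3 E, a' * a⁻¹ ∈ bW 3 E → b' * b⁻¹ ∈ bW 3 E →
        ⁅a', b'⁆ = ⁅a, b⁆ := by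
      intro a' _ b' _ h1 h2
      set u := a' * a⁻¹ with hu
      set t := b' * b⁻¹ with ht
      rw [show a' = u * a by rw [hu]; group, show b' = t * b by rw [ht]; group,
        commutatorElement_def, commutatorElement_def]
      have hu' : u ∈ bQ 3 E := bW_le E h1
      calc u * a * (t * b) * (u * a)⁻¹ * (t * b)⁻¹
          = u * (a * t) * b * a⁻¹ * (u⁻¹ * b⁻¹) * t⁻¹ := by group
        _ = u * (t * a) * b * a⁻¹ * (b⁻¹ * u⁻¹) * t⁻¹ := by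
            rw [commute_bW h2 ha, ← commute_bW (inv_mem h1) (inv_mem hb)]
        _ = u * t * (a * b * a⁻¹ * b⁻¹) * (u⁻¹ * t⁻¹) := by group
        _ = u * t * ((u⁻¹ * t⁻¹) * (a * b * a⁻¹ * b⁻¹)) := by
            rw [mul_assoc (u * t), commute_bW (mul_mem (inv_mem h1) (inv_mem h2))
              (mul_mem (mul_mem (mul_mem ha hb) (inv_mem ha)) (inv_mem hb))]
        _ = a * b * a⁻¹ * b⁻¹ := by
            rw [← mul_assoc, mul_assoc u, ← mul_assoc t, commute_bW (inv_mem h1) (bW_le E h2)]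
            group
    refine congrArg Additive.ofMul (Subtype.ext ?_)
    exact key _ (hrepQ _) _ (hrepQ _) ((X.S₂.val_eq_iff (hrepQ _) ha).mp (hrep _))
      ((X.S₂.val_eq_iff (hrepQ _) hb).mp (hrep _))
  have hlin : ∀ a ∈ bQ 3 E, ∀ b ∈ bQ 3 E, ∀ c ∈ bQ 3 E,
      ⁅a * b, c⁆ = ⁅a, c⁆ * ⁅b, c⁆ ∧ ⁅a, b * c⁆ = ⁅a, b⁆ * ⁅a, c⁆ := by
    intro a ha b hb c hc
    have z1 := hmem b c hb hc
    have z2 := hmem a c ha hc
    constructor
    · calc ⁅a * b, c⁆ = a * ⁅b, c⁆ * a⁻¹ * ⁅a, c⁆ := by simp only [commutatorElement_def]; group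
        _ = ⁅a, c⁆ * ⁅b, c⁆ := by
            rw [commute_bW z1.1 ha, mul_inv_cancel_right, hcomm _ z1 _ z2]
    · calc ⁅a, b * c⁆ = ⁅a, b⁆ * (b * ⁅a, c⁆ * b⁻¹) := by simp only [commutatorElement_def]; group
        _ = ⁅a, b⁆ * ⁅a, c⁆ := by rw [commute_bW z2.1 hb, mul_inv_cancel_right]
  have hA : Nat.card (Additive ↥(bZ 3 E)) = Nat.card F :=
    (Nat.card_congr Additive.toMul).trans X.hcardZ
  obtain ⟨hEQ, hEW, -⟩ := le_normalizer_section (p := 3) E (le_normalizer (H := E))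
  have hl : ∀ u v w, β (u + v) w = β u w + β v w := by
    intro u v w
    obtain ⟨a, ha, rfl⟩ := X.S₂.exists_val u
    obtain ⟨b, hb, rfl⟩ := X.S₂.exists_val v
    obtain ⟨c, hc, rfl⟩ := X.S₂.exists_val w
    rw [← X.S₂.val_mul ha hb, hβ _ (mul_mem ha hb) _ hc, hβ _ ha _ hc, hβ _ hb _ hc, ← ofMul_mul]
    exact congrArg Additive.ofMul (Subtype.ext (hlin a ha b hb c hc).1)
  have hr : ∀ u v w, β u (v + w) = β u v + β u w := by
    intro u v w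
    obtain ⟨a, ha, rfl⟩ := X.S₂.exists_val u
    obtain ⟨b, hb, rfl⟩ := X.S₂.exists_val v
    obtain ⟨c, hc, rfl⟩ := X.S₂.exists_val w
    rw [← X.S₂.val_mul hb hc, hβ _ ha _ (mul_mem hb hc), hβ _ ha _ hb, hβ _ ha _ hc, ← ofMul_mul]
    exact congrArg Additive.ofMul (Subtype.ext (hlin a ha b hb c hc).2)
  have halt : ∀ v, β v v = 0 := fun v => by
    obtain ⟨a, ha, rfl⟩ := X.S₂.exists_val v
    rw [hβ _ ha _ ha, ← ofMul_one]
    exact congrArg Additive.ofMul (Subtype.ext (by simp))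
  have hconj : ∀ g, g ∈ normalizer (bQ 3 E : Set G) → g ∈ normalizer (bW 3 E : Set G) →
      (∀ z ∈ bZ 3 E, g * z * g⁻¹ = z) → ∀ v w, β (X.S₂.act g v) (X.S₂.act g w) = β v w := by
    intro g hQ hW hZ v w
    obtain ⟨a, ha, rfl⟩ := X.S₂.exists_val v
    obtain ⟨b, hb, rfl⟩ := X.S₂.exists_val w
    rw [X.act_val hQ hW ha, X.act_val hQ hW hb, hβ _ ((conj_mem_iff hQ a).mpr ha) _
      ((conj_mem_iff hQ b).mpr hb), hβ _ ha _ hb]
    refine congrArg Additive.ofMul (Subtype.ext ?_)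
    show ⁅g * a * g⁻¹, g * b * g⁻¹⁆ = ⁅a, b⁆
    conv_rhs => rw [← hZ _ (hmem a b ha hb)]
    simp only [commutatorElement_def]; group
  have hinv : ∀ k ∈ commutator (SLtwo F), ∀ v w, β ((k : Matrix (Fin 2) (Fin 2) F).mulVec v)
      ((k : Matrix (Fin 2) (Fin 2) F).mulVec w) = β v w := by
    intro k hk v w
    obtain ⟨e, he, rfl⟩ := X.S₂.exists_mat hk
    rw [← X.act_E he, ← X.act_E he]
    exact hconj e (hEQ he) (hEW he)
      (fun z hz => by rw [mem_centralizer_iff.mp hz.2 e he, mul_inv_cancel_right]) v w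
  have hgen : ∀ Y : AddSubgroup (Additive ↥(bZ 3 E)), (∀ v w, β v w ∈ Y) → Y = ⊤ := by
    intro Y hY
    refine eq_top_iff.mpr fun z _ => ?_
    let Y' : Subgroup G :=
      { carrier := {g | ∃ hg : g ∈ bZ 3 E, Additive.ofMul (⟨g, hg⟩ : ↥(bZ 3 E)) ∈ Y}
        one_mem' := ⟨one_mem _, Y.zero_mem⟩
        mul_mem' := fun ⟨ha, ha'⟩ ⟨hb, hb'⟩ => ⟨mul_mem ha hb, Y.add_mem ha' hb'⟩
        inv_mem' := fun ⟨ha, ha'⟩ => ⟨inv_mem ha, Y.neg_mem ha'⟩ }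
    have h : bZ 3 E ≤ Y' := by
      rw [← X.hder, commutator_le]
      intro a ha b hb
      exact ⟨hmem a b ha hb, hβ a ha b hb ▸ hY _ _⟩
    obtain ⟨hz, hz'⟩ := h (Additive.toMul z).2
    exact hz'
  exact (form_eq_det hA β hl hr halt hinv hgen).mp (hconj g hQ hW hZ v w)

end Cfsg.Agent.Lib.BTBlock.Cent
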