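import Cfsg.Agent.Lib.BTBlock.Cent.Stab
import Cfsg.Agent.Lib.BTBlock.Cent.Form
import Cfsg.Agent.Lib.BTBlock.Subn.Final

/-!
# Elements of `C(M)` fixing the fixed points of the involution
-/

set_option autoImplicit false

namespace Cfsg.Agent.Lib.BTBlock.Cent

open Subgroup Cfsg Sub Subn Matrix Cfsg.Agent.Lib.SL2
open scoped commutatorElement

universe u

variable {G : Type u} [Group G] [Finite G]

/-- Triviality of double commutators with an element on a section. -/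
theorem commutator_zpowers_le {A B : Subgroup G} {b : G} (hAA : ⁅A, A⁆ ≤ B) (hBA : B ≤ A)
    (hcen : ∀ a ∈ A, ∀ z ∈ B, a * z = z * a)
    (hA : b ∈ normalizer (A : Set G)) (hB : b ∈ normalizer (B : Set G))
    (h : ∀ a ∈ A, b * (b * a * b⁻¹ * a⁻¹) * b⁻¹ * (b * a * b⁻¹ * a⁻¹)⁻¹ ∈ B) :
    ⁅⁅A, zpowers b⁆, zpowers b⁆ ≤ B := by
  let T1 : Subgroup G :=
    { carrier := {v | v ∈ A ∧ b * v * b⁻¹ * v⁻¹ ∈ B}
      one_mem' := ⟨one_mem _, by simp⟩
      mul_mem' := fun {v w} hv hw => ⟨mul_mem hv.1 hw.1, by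
        have e : b * (v * w) * b⁻¹ * (v * w)⁻¹ =
            (b * v * b⁻¹ * v⁻¹) * (b * w * b⁻¹ * w⁻¹) := by
          calc b * (v * w) * b⁻¹ * (v * w)⁻¹
              = (b * v * b⁻¹ * v⁻¹) * (v * (b * w * b⁻¹ * w⁻¹)) * v⁻¹ := by group
            _ = _ := by rw [hcen v hv.1 _ hw.2]; group
        rw [e]; exact mul_mem hv.2 hw.2⟩
      inv_mem' := fun {v} hv => ⟨inv_mem hv.1, by
        have e : b * v⁻¹ * b⁻¹ * v⁻¹⁻¹ = (b * v * b⁻¹ * v⁻¹)⁻¹ := by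
          calc b * v⁻¹ * b⁻¹ * v⁻¹⁻¹ = v⁻¹ * (b * v * b⁻¹ * v⁻¹)⁻¹ * v := by group
            _ = _ := by rw [hcen _ (inv_mem hv.1) _ (inv_mem hv.2), inv_mul_cancel_right]
        rw [e]; exact inv_mem hv.2⟩ }
  have hT1A : T1 ≤ A := fun v hv => hv.1
  have hT1 : b ∈ normalizer (T1 : Set G) := by
    refine Amalgam.mem_normalizer_of_map_conj_eq (eq_of_le_of_card_ge ?_
      (le_of_eq (Subgroup.card_map_of_injective (MulAut.conj b).injective).symm))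
    rintro _ ⟨v, hv, rfl⟩
    refine ⟨(conj_mem_iff hA v).mpr hv.1, ?_⟩
    have h2 := (conj_mem_iff hB _).mpr hv.2
    convert h2 using 1
    simp only [MulEquiv.coe_toMonoidHom, MulAut.conj_apply]
    group
  have hmem1 : b ∈ trivSub A T1 := ⟨⟨hA, hT1⟩, fun a ha =>
    ⟨mul_mem ((conj_mem_iff hA a).mpr ha) (inv_mem ha), h a ha⟩⟩
  have hmem2 : b ∈ trivSub T1 B := ⟨⟨hT1, hB⟩, fun v hv => hv.2⟩
  have hle1 : ⁅A, zpowers b⁆ ≤ T1 := by
    rw [commutator_le]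
    intro a ha g hg
    have h := inv_mem ((zpowers_le.mpr hmem1 hg).2 a ha)
    rwa [← commutatorElement_def, commutatorElement_inv] at h
  refine (commutator_mono hle1 le_rfl).trans ?_
  rw [commutator_le]
  intro v hv g hg
  have h := inv_mem ((zpowers_le.mpr hmem2 hg).2 v hv)
  rwa [← commutatorElement_def, commutatorElement_inv] at h

variable [Fact (Nat.Prime 3)]
  {T : Sylow 3 G} {E : Subgroup G} {F : Type} [Field F] [Fintype F] [CharP F 3]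
  (X : Ctx T E F)

/-- No element of `C(M)` moves an element without moving the chain. -/
def Ctx.Fixed (_ : Ctx T E F) : Prop := ∀ g ∈ centralizer (bM 3 E : Set G), TrivOn (pCore 3 G) (bM 3 E) g →
  ∀ r ∈ pCore 3 G, g * r * g⁻¹ = r

include X

theorem Ctx.K1_le_J1 : X.K1 ≤ X.J1 := fun _ hg => hg.1

theorem Ctx.fix_of_act_trivial (hP : X.Fixed) {g : G} (hg : g ∈ X.K1)
    (hgC : g ∈ centralizer (bM 3 E : Set G)) (hv : ∀ v, X.S₂.act g v = v) :
    ∀ r ∈ pCore 3 G, g * r * g⁻¹ = r := by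
  refine hP g hgC (X.trivOn_of hg.2 (fun x hx hjx => ?_) fun x hx => ?_)
  · rw [← hg.1.2 x (X.hQR hx), hjx]
  · have hQ := X.J1_le_normalizer.1 hg.1
    refine (X.S₂.val_eq_iff ((conj_mem_iff hQ x).mpr hx) hx).mp ?_
    rw [← X.act_val hQ (X.J1_le_normalizer.2 hg.1) hx, hv]

theorem Ctx.baumann_moved : ∃ b ∈ baumannSubgroupOf 3 (T : Subgroup G),
    b ∉ centralizer (bW 3 E : Set G) := by
  by_contra hno
  push Not at hno
  refine commutator_thompson_ne_bot X.hG X.hE ?_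
  rw [commutator_comm, commutator_eq_bot_iff_le_centralizer]
  intro t ht
  exact centralizer_le (bM_le_bW E) (hno t (thompson_le_baumann _ ht))

/-- No element of `K1` centralising `M` inverts `Q / W`. -/
theorem Ctx.neg_false (hP : X.Fixed) {g : G} (hg : g ∈ X.K1)
    (hgC : g ∈ centralizer (bM 3 E : Set G)) (hgv : ∀ v, X.S₂.act g v = -v) : False := by
  obtain ⟨b, hb, hbW⟩ := X.baumann_moved
  have hBE := BTBlock.baumann_le_normalizer X.hE
  have hbN := hBE hb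
  have hbl := X.S.baumann_isLin X.hG X.hb X.hiso hBE hb
  obtain ⟨r, hr'⟩ := sylow_baumann_isPGroup T ⟨b, hb⟩
  have hr : b ^ 3 ^ r = 1 := congrArg Subtype.val hr'
  have hb₂ := X.S.isLin₂_of_isLin X.S₂ X.hb rfl X.hWQ hbl (hbl.unipotent hr).1
  obtain ⟨hNQ, hNW, hNZ⟩ := le_normalizer_section (p := 3) E (X := normalizer (E : Set G)) le_rfl
  -- a factor of `b` commuting with the involution
  have hj' : b * X.j * b⁻¹ ∈ E := (conj_mem_iff hbN _).mpr X.j_mem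
  have hjne : X.j ∉ bQ 3 E := fun h => neg_one_ne_one (F := F) (by
    rw [← X.j_mat]; exact X.S.mat_eq_one h)
  have hc : b * (X.j * b⁻¹ * X.j) ∈ bQ 3 E := by
    have h1 : X.S.mat (b * X.j * b⁻¹) = -1 := by
      refine eq_neg_one_of_sq ?_ fun h => hjne ?_
      · rw [← X.S.mat_mul hj' hj',
          show b * X.j * b⁻¹ * (b * X.j * b⁻¹) = b * (X.j * X.j) * b⁻¹ by group,
          X.j_mul, mul_one, mul_inv_cancel, X.S.mat_eq (one_mem E)]
        exact map_one X.S.ρ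
      · exact (conj_mem_iff (hNQ hbN) _).mp (X.S.mem_bQ_of_mat_one X.hb hj' h)
    rw [show b * (X.j * b⁻¹ * X.j) = b * X.j * b⁻¹ * X.j by group]
    refine X.S.mem_bQ_of_mat_one X.hb (mul_mem hj' X.j_mem) ?_
    rw [X.S.mat_mul hj' X.j_mem, h1, X.j_mat]
    simp
  obtain ⟨x, hx, -, hj1⟩ := exists_inv_mul_fix X.j_mul (X.odd_R (X.hQR hc))
  have hxQ : x ∈ bQ 3 E := zpowers_le.mpr hc hx
  set b1 := x⁻¹ * b with hb1
  have hb1N : b1 ∈ normalizer (E : Set G) :=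
    mul_mem (inv_mem (le_normalizer (Amalgam.pCoreOf_le 3 E hxQ))) hbN
  have hb1M : b1 ∈ normalizer (bM 3 E : Set G) := le_normalizer_bM le_rfl hb1N
  have hb1J : b1 ∈ X.J1 := X.mem_J1_of_commute hb1M hj1
  have hb1C := le_normalizer_centralizer
    (show normalizer (E : Set G) ≤ normalizer (bM 3 E : Set G) from le_normalizer_bM le_rfl) hb1N
  -- the commutator with `g` centralises `O_3(G)`
  have hgb : b1 * g * b1⁻¹ ∈ X.K1 :=
    ⟨mul_mem (mul_mem hb1J hg.1) (inv_mem hb1J), fun y hy => by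
      have h := hg.2 _ (X.J1_Rp (inv_mem hb1J) hy)
      calc b1 * g * b1⁻¹ * y * (b1 * g * b1⁻¹)⁻¹
          = b1 * (g * (b1⁻¹ * y * b1⁻¹⁻¹) * g⁻¹) * b1⁻¹ := by group
        _ = y := by rw [h]; group⟩
  have hgQ := X.J1_le_normalizer.1 hg.1
  have hgW := X.J1_le_normalizer.2 hg.1
  have hb1Q := X.J1_le_normalizer.1 hb1J
  have hb1W := X.J1_le_normalizer.2 hb1J
  have hcomm : ∀ r ∈ pCore 3 G, b1 * (g * r * g⁻¹) * b1⁻¹ = g * (b1 * r * b1⁻¹) * g⁻¹ := by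
    have hneg : ∀ v, X.S₂.act b1 (-v) = - X.S₂.act b1 v :=
      map_neg (AddMonoidHom.mk' (X.S₂.act b1) (X.act_add hb1Q hb1W))
    have hh := X.fix_of_act_trivial hP (mul_mem hgb (inv_mem hg))
      (mul_mem ((conj_mem_iff hb1C g).mpr hgC) (inv_mem hgC)) fun v => by
        have hgv' : X.S₂.act g⁻¹ v = -v := by
          have h1 : X.S₂.act g (X.S₂.act g⁻¹ v) = v := by
            rw [← X.act_mul hgQ hgW (inv_mem hgQ) (inv_mem hgW), mul_inv_cancel, X.S₂.act_one]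
          rw [hgv] at h1
          exact neg_eq_iff_eq_neg.mp h1
        rw [X.act_mul (mul_mem (mul_mem hb1Q hgQ) (inv_mem hb1Q))
            (mul_mem (mul_mem hb1W hgW) (inv_mem hb1W)) (inv_mem hgQ) (inv_mem hgW),
          X.act_mul (mul_mem hb1Q hgQ) (mul_mem hb1W hgW) (inv_mem hb1Q) (inv_mem hb1W),
          X.act_mul hb1Q hb1W hgQ hgW, hgv, hneg,
          ← X.act_mul hb1Q hb1W (inv_mem hb1Q) (inv_mem hb1W), mul_inv_cancel, X.S₂.act_one, hgv',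
          neg_neg]
    intro r hr
    have h := hh (g * (b1 * r * b1⁻¹) * g⁻¹) (X.conj_mem_R (X.conj_mem_R hr b1) g)
    rw [← h]
    group
  -- computations in `Q / Z`
  set H := normalizer (bQ 3 E : Set G) ⊓ normalizer (bZ 3 E : Set G)
  have hbH : b ∈ H := ⟨hNQ hbN, hNZ hbN⟩
  have hxH : x ∈ H := ⟨hNQ (le_normalizer (Amalgam.pCoreOf_le 3 E hxQ)),
    hNZ (le_normalizer (Amalgam.pCoreOf_le 3 E hxQ))⟩
  have hb1H : b1 ∈ H := mul_mem (inv_mem hxH) hbH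
  have hgH : g ∈ H := ⟨hgQ, mem_normalizer_iff.mpr fun z => ⟨fun hz => by
      rw [X.fix_Z_of_K1 hg hz]; exact hz, fun hz => by
      have := X.fix_Z_of_K1 (inv_mem hg) hz
      rw [show g⁻¹ * (g * z * g⁻¹) * g⁻¹⁻¹ = z by group] at this
      rwa [this]⟩⟩
  haveI := normal_subgroupOf_of_commutator_le X.hder.le
  letI := sectionCommGroup X.hder.le
  let θ : H →* MulAut (bQ 3 E ⧸ (bZ 3 E).subgroupOf (bQ 3 E)) :=
    RankTwo.sectionAut (A := H) inf_le_left inf_le_right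
  set σ := θ ⟨b, hbH⟩ with hσ
  set γ := θ ⟨g, hgH⟩ with hγ
  have hσ1 : σ = θ ⟨b1, hb1H⟩ := by
    have hx1 : θ ⟨x, hxH⟩ = 1 := by
      refine sectionAut_eq_one _ _ fun q hq => ?_
      exact X.hder.le (commutatorElement_def x q ▸ commutator_mem_commutator hxQ hq)
    rw [hσ, show (⟨b, hbH⟩ : H) = ⟨x, hxH⟩ * ⟨b1, hb1H⟩ from
      Subtype.ext (by simp [b1]), map_mul, hx1, one_mul]
  have hγσ : ∀ v, γ (σ v) = σ (γ v) := by
    intro v
    induction v using QuotientGroup.induction_on with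
    | H y =>
      rw [hσ1]
      simp only [θ, γ, RankTwo.sectionAut_mk]
      congr 1
      refine Subtype.ext ?_
      simp only [Coprime.conjAut_coe]
      exact (hcomm y (X.hQR y.2)).symm
  let D : (bQ 3 E ⧸ (bZ 3 E).subgroupOf (bQ 3 E)) →* (bQ 3 E ⧸ (bZ 3 E).subgroupOf (bQ 3 E)) :=
    (σ.toMonoidHom / MonoidHom.id _).comp (σ.toMonoidHom / MonoidHom.id _)
  have hD : ∀ v, D v = σ (σ v / v) / (σ v / v) := fun v => rfl
  have hγD : ∀ v, γ (D v) = D (γ v) := fun v => by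
    simp only [hD, map_div, hγσ]
  have hDy : ∀ y : bQ 3 E, ∃ w : bQ 3 E, (w : G) ∈ bW 3 E ∧
      D (y : bQ 3 E ⧸ (bZ 3 E).subgroupOf (bQ 3 E)) = w ∧
      (w : G) = b * (b * y * b⁻¹ * (y : G)⁻¹) * b⁻¹ * (b * y * b⁻¹ * (y : G)⁻¹)⁻¹ := by
    intro y
    set q : bQ 3 E := Coprime.conjAut (A := H) inf_le_left ⟨b, hbH⟩ y * y⁻¹
    refine ⟨Coprime.conjAut (A := H) inf_le_left ⟨b, hbH⟩ q * q⁻¹, ?_, ?_, by
      simp only [q, Subgroup.coe_mul, InvMemClass.coe_inv, Coprime.conjAut_coe]⟩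
    · simp only [q, Subgroup.coe_mul, InvMemClass.coe_inv, Coprime.conjAut_coe]
      exact hb₂.quadratic hr y.2
    · simp only [hD, q, θ, σ, RankTwo.sectionAut_mk, div_eq_mul_inv, ← QuotientGroup.mk_inv,
        ← QuotientGroup.mk_mul]
  refine X.hquad b hb hbW (commutator_zpowers_le X.hder.le (inf_le_left.trans (bW_le E))
    (fun a ha z hz => commute_bW hz.1 ha) hbH.1 hbH.2 fun y hy => ?_)
  obtain ⟨w, hw, hwD, hweq⟩ := hDy ⟨y, hy⟩
  rw [← hweq]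
  set v : bQ 3 E ⧸ (bZ 3 E).subgroupOf (bQ 3 E) := QuotientGroup.mk ⟨y, hy⟩
  suffices h1 : D v = 1 by
    rw [hwD, QuotientGroup.eq_one_iff] at h1
    exact h1
  have hγw : γ (D v) = D v := by
    rw [hwD]
    simp only [γ, θ, RankTwo.sectionAut_mk]
    congr 1
    refine Subtype.ext ?_
    rw [Coprime.conjAut_coe]
    exact X.J1_fix_W hgC (fun z hz => X.fix_Z_of_K1 hg hz) hw
  have hgy : g * y * g⁻¹ ∈ bQ 3 E := (conj_mem_iff hgQ y).mpr hy
  have hw' : (g * y * g⁻¹) * y ∈ bW 3 E := by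
    rw [← X.S₂.val_eq_zero (mul_mem hgy hy), X.S₂.val_mul hgy hy, ← X.act_val hgQ hgW hy, hgv,
      neg_add_cancel]
  have h1 : D (γ v * v) = 1 := by
    have : γ v * v = QuotientGroup.mk ⟨g * y * g⁻¹ * y, bW_le E hw'⟩ := rfl
    obtain ⟨u, -, huD, hueq⟩ := hDy ⟨g * y * g⁻¹ * y, bW_le E hw'⟩
    rw [this, huD, QuotientGroup.eq_one_iff, mem_subgroupOf, hueq]
    exact hbl.quadratic hr hw'
  rw [map_mul, ← hγD, hγw] at h1
  obtain ⟨k, hk⟩ := (isPGroup_bQ (p := 3) E).to_quotient ((bZ 3 E).subgroupOf (bQ 3 E)) (D v)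
  obtain ⟨m, hm⟩ := (show Odd (3 ^ k) from Odd.pow (by decide))
  rwa [hm, pow_succ, pow_mul, sq, h1, one_pow, one_mul] at hk

/-- An element of `K1` centralising `M` centralises `O_3(G)`. -/
theorem Ctx.K1_fix (hP : X.Fixed) {g : G} (hg : g ∈ X.K1)
    (hgC : g ∈ centralizer (bM 3 E : Set G)) : ∀ r ∈ pCore 3 G, g * r * g⁻¹ = r := by
  refine X.fix_of_act_trivial hP hg hgC ?_
  let U : Subgroup G := X.K1 ⊓ centralizer (bM 3 E : Set G)
  have hUQ : U ≤ normalizer (bQ 3 E : Set G) := fun u hu => X.J1_le_normalizer.1 hu.1.1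
  have hUW : U ≤ normalizer (bW 3 E : Set G) := fun u hu => X.J1_le_normalizer.2 hu.1.1
  let I : Subgroup (SLtwo F) :=
    { carrier := {k | ∃ u ∈ U, ∀ v, X.S₂.act u v = (k : Matrix (Fin 2) (Fin 2) F).mulVec v}
      one_mem' := ⟨1, one_mem _, fun v => by simp [X.S₂.act_one]⟩
      mul_mem' := by
        rintro a c ⟨u, hu, hua⟩ ⟨w, hw, hwc⟩
        refine ⟨u * w, mul_mem hu hw, fun v => ?_⟩
        rw [X.act_mul (hUQ hu) (hUW hu) (hUQ hw) (hUW hw), hwc, hua,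
          Matrix.SpecialLinearGroup.coe_mul, ← Matrix.mulVec_mulVec]
      inv_mem' := by
        rintro a ⟨u, hu, hua⟩
        refine ⟨u⁻¹, inv_mem hu, fun v => ?_⟩
        have h := X.act_mul (inv_mem (hUQ hu)) (inv_mem (hUW hu)) (hUQ hu) (hUW hu)
          (((a⁻¹ : SLtwo F) : Matrix (Fin 2) (Fin 2) F).mulVec v)
        rw [inv_mul_cancel, X.S₂.act_one, hua, Matrix.mulVec_mulVec,
          ← Matrix.SpecialLinearGroup.coe_mul, mul_inv_cancel, Matrix.SpecialLinearGroup.coe_one,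
          Matrix.one_mulVec] at h
        exact h.symm }
  have hrep : ∀ u ∈ U, ∃ k ∈ I, ∀ v, X.S₂.act u v = (k : Matrix (Fin 2) (Fin 2) F).mulVec v := by
    intro u hu
    obtain ⟨k, hk⟩ := exists_SL_of_preserves
      (AddMonoidHom.mk' (X.S₂.act u) (X.act_add (hUQ hu) (hUW hu)))
      (X.det_preserved (hUQ hu) (hUW hu) fun z hz => X.fix_Z_of_K1 hu.1 hz)
    exact ⟨k, ⟨u, hu, hk⟩, hk⟩
  obtain ⟨k, hk, hgk⟩ := hrep g ⟨hg, hgC⟩
  by_cases hI : I = ⊥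
  · intro v
    rw [hgk, (mem_bot.mp (hI ▸ hk) : k = 1)]
    simp
  exfalso
  obtain ⟨u, hu, huv⟩ := neg_one_mem_of_normalized hI fun l hl a ha => by
    obtain ⟨u, hu, hua⟩ := ha
    obtain ⟨e, he, rfl⟩ := X.S₂.exists_mat hl
    obtain ⟨y, hy, hyq⟩ := X.exists_E1 he
    have hyE : y ∈ E := (X.mem_E1.mp hy).1
    have hmat : X.S₂.mat e = X.S₂.mat y := by
      conv_lhs => rw [show e = y * (y⁻¹ * e) by group]
      rw [X.S₂.mat_mul hyE (Amalgam.pCoreOf_le 3 E hyq), X.S₂.mat_eq_one₂ X.hWQ hyq, mul_one]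
    have hinv : X.S₂.mat y⁻¹ = (X.S₂.mat y)⁻¹ := by
      rw [X.S₂.mat_eq hyE, X.S₂.mat_eq (inv_mem hyE), ← map_inv]; rfl
    have hy' : y ∈ X.K1 := X.E1_le_K1 hy
    refine ⟨y * u * y⁻¹, ⟨X.K1.mul_mem (X.K1.mul_mem hy' hu.1) (X.K1.inv_mem hy'),
      (conj_mem_iff (X.le_normalizer_C.1 hyE) u).mpr hu.2⟩, fun v => ?_⟩
    have hyQ := X.J1_le_normalizer.1 hy'.1
    have hyW := X.J1_le_normalizer.2 hy'.1
    rw [X.act_mul (mul_mem hyQ (hUQ hu)) (mul_mem hyW (hUW hu)) (inv_mem hyQ) (inv_mem hyW),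
      X.act_mul hyQ hyW (hUQ hu) (hUW hu), X.act_E (inv_mem hyE), hua, X.act_E hyE, hinv,
      Matrix.mulVec_mulVec, Matrix.mulVec_mulVec, ← Matrix.SpecialLinearGroup.coe_mul,
      ← Matrix.SpecialLinearGroup.coe_mul, hmat, mul_assoc]
  exact X.neg_false hP hu.1 hu.2 fun v => (huv v).trans (neg_one_mulVec v)

theorem Ctx.commutator_E1_fix (hP : X.Fixed) {x e : G} (hx : x ∈ X.J1)
    (hxC : x ∈ centralizer (bM 3 E : Set G)) (he : e ∈ X.E1) :
    ∀ r ∈ pCore 3 G, e * x * e⁻¹ * x⁻¹ * r * (e * x * e⁻¹ * x⁻¹)⁻¹ = r := by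
  obtain ⟨heE, -, hef⟩ := X.mem_E1.mp he
  have hei : ∀ y ∈ X.Rp, e⁻¹ * y * e⁻¹⁻¹ = y :=
    (X.mem_E1.mp (inv_mem he)).2.2
  have he1 := (X.E1_le_K1 he).1
  refine X.K1_fix hP ⟨mul_mem (mul_mem (mul_mem he1 hx) (inv_mem he1)) (inv_mem hx),
    fun y hy => ?_⟩ (mul_mem ((conj_mem_iff (X.le_normalizer_C.1 heE) x).mpr hxC) (inv_mem hxC))
  calc e * x * e⁻¹ * x⁻¹ * y * (e * x * e⁻¹ * x⁻¹)⁻¹
      = e * (x * (e⁻¹ * (x⁻¹ * y * x⁻¹⁻¹) * e⁻¹⁻¹) * x⁻¹) * e⁻¹ := by group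
    _ = y := by
      rw [hei _ (X.J1_Rp (inv_mem hx) hy)]
      rw [show x * (x⁻¹ * y * x⁻¹⁻¹) * x⁻¹ = y by group, hef y hy]

/-- Elements of `C(M)` commuting with the involution act as scalars on `Q / W`. -/
theorem Ctx.act_scalar (hP : X.Fixed) {x : G} (hx : x ∈ X.J1)
    (hxC : x ∈ centralizer (bM 3 E : Set G)) : ∃ c : F, ∀ v, X.S₂.act x v = c • v := by
  have hxQ := X.J1_le_normalizer.1 hx
  have hxW := X.J1_le_normalizer.2 hx
  refine exists_scalar (AddMonoidHom.mk' (X.S₂.act x) (X.act_add hxQ hxW)) fun k hk v => ?_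
  obtain ⟨e, he, rfl⟩ := X.S₂.exists_mat hk
  obtain ⟨y, hy, hyq⟩ := X.exists_E1 he
  have hyE : y ∈ E := (X.mem_E1.mp hy).1
  have hmat : X.S₂.mat e = X.S₂.mat y := by
    conv_lhs => rw [show e = y * (y⁻¹ * e) by group]
    rw [X.S₂.mat_mul hyE (Amalgam.pCoreOf_le 3 E hyq), X.S₂.mat_eq_one₂ X.hWQ hyq, mul_one]
  have hy' := (X.E1_le_K1 hy).1
  have hyQ := X.J1_le_normalizer.1 hy'
  have hyW := X.J1_le_normalizer.2 hy'
  set c := y * x * y⁻¹ * x⁻¹ with hc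
  have hc1 : c ∈ X.J1 := mul_mem (mul_mem (mul_mem hy' hx) (inv_mem hy')) (inv_mem hx)
  have hcv : ∀ w, X.S₂.act c w = w := fun w => by
    obtain ⟨q, hq, rfl⟩ := X.S₂.exists_val w
    rw [X.act_val (X.J1_le_normalizer.1 hc1) (X.J1_le_normalizer.2 hc1) hq,
      X.commutator_E1_fix hP hx hxC hy q (X.hQR hq)]
  simp only [AddMonoidHom.mk'_apply]
  rw [hmat, ← X.act_E hyE, ← X.act_E hyE, ← X.act_mul hxQ hxW hyQ hyW,
    ← X.act_mul hyQ hyW hxQ hxW, show y * x = c * (x * y) by rw [hc]; group,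
    X.act_mul (X.J1_le_normalizer.1 hc1) (X.J1_le_normalizer.2 hc1) (mul_mem hxQ hyQ)
      (mul_mem hxW hyW), hcv]

/-- Elements of `C(M)` commuting with the involution normalise the block. -/
theorem Ctx.J1_inf_C_le (hP : X.Fixed) :
    X.J1 ⊓ centralizer (bM 3 E : Set G) ≤ normalizer (E : Set G) := by
  rintro x ⟨hx, hxC⟩
  refine X.hb.mem_normalizer_of_map_le ?_
  rintro _ ⟨e, he, rfl⟩
  obtain ⟨y, hy, hyq⟩ := X.exists_E1 he
  have h1 : y * x * y⁻¹ * x⁻¹ ∈ pCore 3 G := X.hG <| mem_centralizer_iff.mpr fun r hr =>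
    (mul_inv_eq_iff_eq_mul.mp (X.commutator_E1_fix hP hx hxC hy r hr)).symm
  have h2 : x * (y⁻¹ * e) * x⁻¹ ∈ bQ 3 E := X.J1_normalizes_Q hx hyq
  have h3 : (y * x * y⁻¹ * x⁻¹)⁻¹ * y * (x * (y⁻¹ * e) * x⁻¹) ∈ E ⊔ pCore 3 G :=
    mul_mem (mul_mem (mem_sup_right (inv_mem h1)) (mem_sup_left (X.mem_E1.mp hy).1))
      (mem_sup_left (Amalgam.pCoreOf_le 3 E h2))
  convert h3 using 1
  simp only [MulEquiv.coe_toMonoidHom, MulAut.conj_apply]
  group

end Cfsg.Agent.Lib.BTBlock.Cent
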