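import Cfsg.Agent.Lib.BTBlock.Cent.Fix
import Cfsg.Agent.Lib.ZStar.Final
import Cfsg.Agent.Lib.PSolvable.Core

/-!
# The involution is isolated in `C(M)⟨j⟩` modulo the `3`-core
-/

set_option autoImplicit false

namespace Cfsg.Agent.Lib.BTBlock.Cent

open Subgroup Cfsg Sub Subn Matrix Cfsg.Agent.Lib.SL2
open scoped commutatorElement

universe u

variable {G : Type u} [Group G] [Finite G]

/-- An involution times an inverted element of odd order is a conjugate of the involution. -/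
theorem exists_conj_of_inverted {t x : G} (ht : t * t = 1) (hx : Odd (orderOf x))
    (htx : t * x * t = x⁻¹) : ∃ y ∈ zpowers x, y * t * y⁻¹ = x⁻¹ * t := by
  obtain ⟨k, hk⟩ := hx
  set y := x⁻¹ ^ (k + 1)
  have hti : t⁻¹ = t := inv_eq_of_mul_eq_one_right ht
  have hty : t * y⁻¹ * t = y := by
    have h := conj_pow (i := k + 1) (a := t) (b := x)
    rw [hti, htx] at h
    simp only [y, inv_pow, inv_inv] at *
    exact h.symm
  refine ⟨y, pow_mem (inv_mem (mem_zpowers x)) _, ?_⟩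
  have hyy : y * y = x⁻¹ := by
    rw [← pow_add, show k + 1 + (k + 1) = orderOf x + 1 by omega, pow_succ, inv_pow,
      pow_orderOf_eq_one, inv_one, one_mul]
  calc y * t * y⁻¹ = y * (t * y⁻¹ * t) * t⁻¹ := by group
    _ = x⁻¹ * t := by rw [hty, hyy, hti]

variable [Fact (Nat.Prime 3)]
  {T : Sylow 3 G} {E : Subgroup G} {F : Type} [Field F] [Fintype F] [CharP F 3]
  (X : Ctx T E F)

/-- The `3`-core of `C(M)`. -/
def Ctx.N (_ : Ctx T E F) : Subgroup G := pCoreOf 3 (centralizer (bM 3 E : Set G))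

/-- The odd core of `C(M)`. -/
def Ctx.O (_ : Ctx T E F) : Subgroup G :=
  (oddCore ↥(centralizer (bM 3 E : Set G))).map (centralizer (bM 3 E : Set G)).subtype

include X

theorem Ctx.N_isPGroup : IsPGroup 3 X.N := Amalgam.isPGroup_pCoreOf _

theorem Ctx.N_le_C : X.N ≤ centralizer (bM 3 E : Set G) := Amalgam.pCoreOf_le 3 _

theorem Ctx.R_le_C : pCore 3 G ≤ centralizer (bM 3 E : Set G) := fun _ hr =>
  mem_centralizer_iff.mpr fun _ hm => (X.R_fix_W hr (bM_le_bW E hm)).symm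

theorem Ctx.R_le_N : pCore 3 G ≤ X.N := fun _ hr =>
  PSolvable.pCore_inf_le_map_subtype _ ⟨hr, X.R_le_C hr⟩

theorem Ctx.N_conj {Y : Subgroup G} (hY : Y ≤ normalizer (bM 3 E : Set G)) :
    Y ≤ normalizer (X.N : Set G) := by
  intro g hg
  refine Amalgam.mem_normalizer_of_map_conj_eq ?_
  rw [Ctx.N, ← Amalgam.pCoreOf_map _ (MulAut.conj g).injective,
    Amalgam.map_conj_eq_of_mem_normalizer (le_normalizer_centralizer hY hg)]

theorem Ctx.N_le_normalizer : X.N ≤ normalizer (E : Set G) :=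
  le_normalizer_of_normalized X.hE X.N_isPGroup (X.N_conj (le_normalizer_bM' X.hE))
    (X.N_conj (le_normalizer_bM le_normalizer))

theorem Ctx.jcj_mem {c : G} (hc : c ∈ centralizer (bM 3 E : Set G)) :
    X.j * c * X.j ∈ centralizer (bM 3 E : Set G) := by
  have := (conj_mem_iff (X.le_normalizer_C.1 X.j_mem) c).mpr hc
  rwa [X.j_inv] at this

theorem Ctx.j_not_mem_C : X.j ∉ centralizer (bM 3 E : Set G) := fun h => by
  refine not_bM_le_bZ X.hb fun m hm => ?_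
  have h1 : X.j * m * X.j = m := by
    rw [← mem_centralizer_iff.mp h m hm, mul_assoc, X.j_mul, mul_one]
  rw [X.eq_one_of_fix_inv (X.hMR hm) h1 (X.j_inv_M hm)]
  exact one_mem _

theorem Ctx.exists_pair : ∃ e₁ ∈ X.E1, ∃ e₂ ∈ X.E1,
    X.S.mat e₁ * X.S.mat e₁ = -1 ∧ X.S.mat (e₁ * e₂ * e₁⁻¹ * e₂⁻¹) = -1 := by
  obtain ⟨a, ha, b, hb, haa, hab⟩ := exists_quat (F := F)
  have lift : ∀ k ∈ commutator (SLtwo F), ∃ y ∈ X.E1, X.S.mat y = k := by
    intro k hk
    obtain ⟨e, he, rfl⟩ := X.S.exists_mat hk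
    obtain ⟨y, hy, hyq⟩ := X.exists_E1 he
    have hyE := (X.mem_E1.mp hy).1
    refine ⟨y, hy, ?_⟩
    conv_rhs => rw [show e = y * (y⁻¹ * e) by group]
    rw [X.S.mat_mul hyE (Amalgam.pCoreOf_le 3 E hyq), X.S.mat_eq_one hyq, mul_one]
  obtain ⟨e₁, h₁, hm₁⟩ := lift a ha
  obtain ⟨e₂, h₂, hm₂⟩ := lift b hb
  refine ⟨e₁, h₁, e₂, h₂, by rw [hm₁, haa], ?_⟩
  have h₁E := (X.mem_E1.mp h₁).1
  have h₂E := (X.mem_E1.mp h₂).1
  have hinv : ∀ {e : G}, e ∈ E → X.S.mat e⁻¹ = (X.S.mat e)⁻¹ := fun {e} he => by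
    rw [X.S.mat_eq he, X.S.mat_eq (inv_mem he), ← map_inv]; rfl
  rw [X.S.mat_mul (mul_mem (mul_mem h₁E h₂E) (inv_mem h₁E)) (inv_mem h₂E),
    X.S.mat_mul (mul_mem h₁E h₂E) (inv_mem h₁E), X.S.mat_mul h₁E h₂E, hinv h₁E, hinv h₂E, hm₁, hm₂,
    hab]

/-- A conjugate of the involution commuting with it and equal to it on `Q / W`. -/
theorem Ctx.mem_N_of_act_one (hP : X.Fixed) {c : G} (hc : c ∈ centralizer (bM 3 E : Set G))
    (hjt : X.j * (c * X.j * c⁻¹) ∈ X.J1)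
    (hcom : X.j * (c * X.j * c⁻¹) = c * X.j * c⁻¹ * X.j)
    (hv : ∀ v, X.S₂.act (X.j * (c * X.j * c⁻¹)) v = v) : X.j * (c * X.j * c⁻¹) ∈ X.N := by
  set t := c * X.j * c⁻¹ with ht
  clear_value t
  have hjtj : X.j * t * X.j = t := by rw [hcom, mul_assoc, X.j_mul, mul_one]
  have hswap : ∀ y, (X.j * t) * y * (t * X.j) = t * (X.j * y * X.j) * t := fun y =>
    calc (X.j * t) * y * (t * X.j) = (t * X.j) * y * (X.j * t) :=
          congrArg₂ (fun a b => a * y * b) hcom hcom.symm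
      _ = _ := by group
  set x := X.j * t with hx
  have hxC : x ∈ centralizer (bM 3 E : Set G) := by
    rw [hx, ht, show X.j * (c * X.j * c⁻¹) = X.j * c * X.j * c⁻¹ by group]
    exact mul_mem (X.jcj_mem hc) (inv_mem hc)
  have htt : t * t = 1 := by
    rw [ht, show c * X.j * c⁻¹ * (c * X.j * c⁻¹) = c * (X.j * X.j) * c⁻¹ by group, X.j_mul]; group
  have hti : t⁻¹ = t := inv_eq_of_mul_eq_one_right htt
  have hxx : x * x = 1 := by
    rw [hx, show X.j * t * (X.j * t) = (X.j * t * X.j) * t by group, hjtj, htt]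
  -- elements inverted by `j` are inverted by `t`
  have hle : ∀ r ∈ pCore 3 G, X.j * r * X.j = r⁻¹ → t * r * t = r⁻¹ := by
    intro r hr hjr
    have hrQ := X.inv_mem_Q hr hjr
    have hxQ := X.J1_le_normalizer.1 hjt
    have hxr : x * r * x⁻¹ * r⁻¹ ∈ bW 3 E := by
      refine (X.S₂.val_eq_iff ((conj_mem_iff hxQ r).mpr hrQ) hrQ).mp ?_
      rw [← X.act_val hxQ (X.J1_le_normalizer.2 hjt) hrQ, hv]
    obtain ⟨-, hjx⟩ := X.J1_inv hjt hrQ hjr
    set w := x * r * x⁻¹ * r⁻¹ with hw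
    have hwM : w ∈ bM 3 E := by
      refine X.mem_M_of_inv hxr ?_
      rw [hw, X.conj_mul, hjx, X.conj_inv hjr, inv_inv]
      calc (x * r * x⁻¹)⁻¹ * r = r⁻¹ * (x * r * x⁻¹ * r⁻¹)⁻¹ * r := by group
        _ = w⁻¹ := by rw [← hw, mul_assoc, ← X.R_fix_W hr (inv_mem hxr), inv_mul_cancel_left]
        _ = (x * r * x⁻¹ * r⁻¹)⁻¹ := by rw [hw]
    have hw1 : w = 1 := by
      refine X.eq_one_of_sq (X.hWR hxr) ?_
      have hfix : x * w * x⁻¹ = w := by
        rw [← mem_centralizer_iff.mp hxC w hwM, mul_inv_cancel_right]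
      have h2 : x * (w * r) * x⁻¹ = r := by
        rw [show w * r = x * r * x⁻¹ by rw [hw]; group,
          show x * (x * r * x⁻¹) * x⁻¹ = (x * x) * r * (x * x)⁻¹ by group, hxx]; group
      have h3 : w * (w * r) = r := by
        conv_rhs => rw [← h2]
        rw [show x * (w * r) * x⁻¹ = (x * w * x⁻¹) * (x * r * x⁻¹) by group, hfix,
          show x * r * x⁻¹ = w * r by rw [hw]; group]
      exact mul_eq_right.mp ((mul_assoc w w r).trans h3)
    calc t * r * t = X.j * (x * r * x⁻¹) * X.j := by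
          rw [hx, _root_.mul_inv_rev, hti, X.j_inv]
          simp only [mul_assoc, X.jj_cancel, X.j_mul, mul_one]
      _ = r⁻¹ := by rw [show x * r * x⁻¹ = r by simpa [hw, mul_inv_eq_one] using hw1, hjr]
  -- and conversely
  have hge : ∀ r ∈ pCore 3 G, t * r * t = r⁻¹ → X.j * r * X.j = r⁻¹ := by
    intro r hr htr
    let Sj : Set G := {r | r ∈ pCore 3 G ∧ X.j * r * X.j = r⁻¹}
    let St : Set G := {r | r ∈ pCore 3 G ∧ t * r * t = r⁻¹}
    have hsub : Sj ⊆ St := fun r hr => ⟨hr.1, hle r hr.1 hr.2⟩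
    have himg : St ⊆ (fun r => c * r * c⁻¹) '' Sj := by
      rintro r ⟨hr, htr⟩
      refine ⟨c⁻¹ * r * c, ⟨?_, ?_⟩, by group⟩
      · have := X.conj_mem_R hr c⁻¹
        rwa [inv_inv] at this
      · calc X.j * (c⁻¹ * r * c) * X.j = c⁻¹ * (t * r * t) * c := by rw [ht]; group
          _ = (c⁻¹ * r * c)⁻¹ := by rw [htr]; group
    have hcard : St.ncard ≤ Sj.ncard :=
      (Set.ncard_le_ncard himg (Set.toFinite _)).trans (Set.ncard_image_le (Set.toFinite _))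
    have he := Set.eq_of_subset_of_ncard_le hsub hcard (Set.toFinite _)
    have hmem : r ∈ Sj := he.symm ▸ (⟨hr, htr⟩ : r ∈ St)
    exact hmem.2
  have hfix : ∀ y ∈ X.Rp, x * y * x⁻¹ = y := by
    intro y hy
    obtain ⟨hyR, hjy⟩ := X.mem_Rp.mp hy
    have htyR : t * y * t ∈ pCore 3 G := by
      have := X.conj_mem_R hyR t
      rwa [hti] at this
    have hjty : X.j * (t * y * t) * X.j = t * y * t := by
      calc X.j * (t * y * t) * X.j = (X.j * t) * y * (t * X.j) := by group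
        _ = t * (X.j * y * X.j) * t := hswap y
        _ = _ := by rw [hjy]
    have hu : y * (t * y * t)⁻¹ = 1 := by
      refine X.eq_one_of_fix_inv (mul_mem hyR (inv_mem htyR))
        (by rw [X.conj_mul, hjy, X.conj_inv hjty]) (hge _ (mul_mem hyR (inv_mem htyR)) ?_)
      calc t * (y * (t * y * t)⁻¹) * t = t * y * t⁻¹ * y⁻¹ * (t⁻¹ * t) := by group
        _ = t * y * t * y⁻¹ := by rw [hti, htt, mul_one]
        _ = (y * (t * y * t)⁻¹)⁻¹ := by group
    have hty : t * y * t = y := (mul_inv_eq_one.mp hu).symm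
    calc x * y * x⁻¹ = X.j * (t * y * t) * X.j := by
          rw [hx, _root_.mul_inv_rev, hti, X.j_inv]; group
      _ = y := by rw [hty, hjy]
  refine X.R_le_N (X.hG (mem_centralizer_iff.mpr fun r hr => ?_))
  exact (mul_inv_eq_iff_eq_mul.mp (X.K1_fix hP ⟨hjt, hfix⟩ hxC r hr)).symm

/-- No conjugate of the involution commuting with it is opposite to it on `Q / W`. -/
theorem Ctx.false_of_act_neg (hP : X.Fixed) {c : G} (hc : c ∈ centralizer (bM 3 E : Set G))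
    (hjt : X.j * (c * X.j * c⁻¹) ∈ X.J1)
    (hcom : X.j * (c * X.j * c⁻¹) = c * X.j * c⁻¹ * X.j)
    (hv : ∀ v, X.S₂.act (X.j * (c * X.j * c⁻¹)) v = -v) : False := by
  obtain ⟨e₁, h₁, e₂, h₂, -, hk⟩ := X.exists_pair
  obtain ⟨h₁E, -, h₁f⟩ := X.mem_E1.mp h₁
  obtain ⟨h₂E, h₂j, h₂f⟩ := X.mem_E1.mp h₂
  set t := c * X.j * c⁻¹ with ht
  clear_value t
  have hjtj : X.j * t * X.j = t := by rw [hcom, mul_assoc, X.j_mul, mul_one]
  have hjx' : X.j = t * (X.j * t) := by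
    rw [hcom, ← mul_assoc, show t * t = 1 by
      rw [ht, show c * X.j * c⁻¹ * (c * X.j * c⁻¹) = c * (X.j * X.j) * c⁻¹ by group, X.j_mul]; group,
      one_mul]
  have hxt' : t * (X.j * t) * t = X.j * t := by rw [← hjx']
  set x := X.j * t with hx
  set C := centralizer (bM 3 E : Set G) with hCdef
  have hxC : x ∈ C := by
    rw [hx, ht, show X.j * (c * X.j * c⁻¹) = X.j * c * X.j * c⁻¹ by group]
    exact mul_mem (X.jcj_mem hc) (inv_mem hc)
  have htt : t * t = 1 := by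
    rw [ht, show c * X.j * c⁻¹ * (c * X.j * c⁻¹) = c * (X.j * X.j) * c⁻¹ by group, X.j_mul]; group
  have hti : t⁻¹ = t := inv_eq_of_mul_eq_one_right htt
  have hxx : x * x = 1 := by
    rw [hx, show X.j * t * (X.j * t) = (X.j * t * X.j) * t by group, hjtj, htt]
  have hxi : x⁻¹ = x := inv_eq_of_mul_eq_one_right hxx
  have hxt : t * x * t = x := hxt'
  -- `x' = c⁻¹ x c` and its commutator with `e₂`
  set e' := c * e₂ * c⁻¹ with he'
  have hte' : t * e' * t = e' := by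
    rw [ht, he', show c * X.j * c⁻¹ * (c * e₂ * c⁻¹) * (c * X.j * c⁻¹) =
      c * (X.j * e₂ * X.j) * c⁻¹ by group, h₂j]
  have hρ : e' * (x * e'⁻¹ * x) ∈ pCore 3 G := by
    have hx'C : c⁻¹ * x * c ∈ C := mul_mem (mul_mem (inv_mem hc) hxC) hc
    have hx'j : X.j * (c⁻¹ * x * c) * X.j = c⁻¹ * x * c := by
      rw [show X.j * (c⁻¹ * x * c) * X.j = c⁻¹ * (t * x * t) * c by rw [ht]; group, hxt]
    have hx'J : c⁻¹ * x * c ∈ X.J1 :=
      X.mem_J1_of_commute (centralizer_le_normalizer _ hx'C) hx'j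
    have h1 : e₂ * (c⁻¹ * x * c) * e₂⁻¹ * (c⁻¹ * x * c)⁻¹ ∈ pCore 3 G :=
      X.hG <| mem_centralizer_iff.mpr fun r hr =>
        (mul_inv_eq_iff_eq_mul.mp (X.commutator_E1_fix hP hx'J hx'C h₂ r hr)).symm
    have h2 := X.conj_mem_R h1 c
    convert h2 using 1
    rw [he', show x * (c * e₂ * c⁻¹)⁻¹ * x = x * (c * e₂ * c⁻¹)⁻¹ * x⁻¹ by rw [hxi]]
    group
  obtain ⟨s, hs, -, hxe⟩ := exists_inv_mul_fix hxx (X.odd_R hρ)
  have hsR : s ∈ pCore 3 G := zpowers_le.mpr hρ hs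
  set e₃ := s⁻¹ * e' with he₃
  have hts : t * s * t = s := by
    obtain ⟨k, rfl⟩ := mem_zpowers_iff.mp hs
    have hfix : t * (e' * (x * e'⁻¹ * x)) * t⁻¹ = e' * (x * e'⁻¹ * x) := by
      calc t * (e' * (x * e'⁻¹ * x)) * t⁻¹
          = (t * e' * t⁻¹) * ((t * x * t⁻¹) * (t * e' * t⁻¹)⁻¹ * (t * x * t⁻¹)) := by group
        _ = _ := by rw [hti, hte', hxt]
    have h := conj_zpow (i := k) (a := t) (b := e' * (x * e'⁻¹ * x))
    rw [hfix, hti] at h
    exact h.symm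
  have hte₃ : t * e₃ * t = e₃ := by
    have hts' : t * s⁻¹ * t = s⁻¹ := by
      have := congrArg Inv.inv hts
      rwa [_root_.mul_inv_rev, _root_.mul_inv_rev, hti, ← mul_assoc] at this
    calc t * e₃ * t = t * s⁻¹ * (t * t) * e' * t := by rw [he₃, htt]; group
      _ = (t * s⁻¹ * t) * (t * e' * t) := by group
      _ = e₃ := by rw [hts', hte', he₃]
  have hje₃ : X.j * e₃ * X.j = e₃ := by
    have hjx : X.j = x * t := by rw [hx, mul_assoc, htt, mul_one]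
    calc X.j * e₃ * X.j = (x * t) * e₃ * (t * x) :=
          congrArg₂ (fun a b => a * e₃ * b) hjx hjx'
      _ = x * (t * e₃ * t) * x := by group
      _ = e₃ := by rw [hte₃, hxe]
  -- the action on `M`
  have hM : ∀ m ∈ bM 3 E, e₃ * m * e₃⁻¹ = e₂ * m * e₂⁻¹ := by
    intro m hm
    have hm' : e₂ * m * e₂⁻¹ ∈ bM 3 E :=
      (conj_mem_iff (le_normalizer_bM le_normalizer h₂E) m).mpr hm
    have hfixM : ∀ g ∈ C, ∀ m ∈ bM 3 E, g * m * g⁻¹ = m := fun g hg m hm => by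
      rw [← mem_centralizer_iff.mp hg m hm, mul_inv_cancel_right]
    calc e₃ * m * e₃⁻¹ = s⁻¹ * (c * (e₂ * (c⁻¹ * m * c⁻¹⁻¹) * e₂⁻¹) * c⁻¹) * s⁻¹⁻¹ := by
          rw [he₃, he']; group
      _ = _ := by rw [hfixM _ (inv_mem hc) m hm, hfixM c hc _ hm',
          hfixM _ (inv_mem (X.R_le_C hsR)) _ hm']
  have he₂J := (X.E1_le_K1 h₂).1
  have he₃J : e₃ ∈ X.J1 := by
    refine X.mem_J1_of_commute ?_ hje₃
    exact mul_mem (inv_mem (centralizer_le_normalizer _ (X.R_le_C hsR)))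
      (mul_mem (mul_mem (centralizer_le_normalizer _ hc) he₂J.1)
        (inv_mem (centralizer_le_normalizer _ hc)))
  -- the action on `Q / W`
  have hact : ∀ v, X.S₂.act e₃ v = v := by
    intro v
    obtain ⟨q, hq, rfl⟩ := X.S₂.exists_val v
    have htJ : t ∈ X.J1 := X.mem_J1_of_commute (ht ▸ mul_mem (mul_mem (centralizer_le_normalizer _ hc)
      (le_normalizer_bM le_normalizer X.j_mem)) (inv_mem (centralizer_le_normalizer _ hc))) hjtj
    have htQ := X.J1_le_normalizer.1 htJ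
    have htW := X.J1_le_normalizer.2 htJ
    have hjJ := (X.E1_le_K1 X.j_mem_E1).1
    have hxQ := X.J1_le_normalizer.1 hjt
    have htv : ∀ v, X.S₂.act t v = v := fun v => by
      have h1 := hv v
      rw [hx, X.act_mul (X.J1_le_normalizer.1 hjJ) (X.J1_le_normalizer.2 hjJ) htQ htW,
        X.act_E X.j_mem, X.j_mat₂, neg_one_mulVec, neg_inj] at h1
      exact h1
    have htq' : t * q * t⁻¹ * q⁻¹ ∈ bW 3 E := by
      refine (X.S₂.val_eq_iff ((conj_mem_iff htQ q).mpr hq) hq).mp ?_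
      rw [← X.act_val htQ htW hq, htv]
    have hc0 : q * (t * q⁻¹ * t) ∈ bW 3 E := by
      have := inv_mem htq'
      convert this using 1
      rw [hti]
      conv_rhs => simp only [_root_.mul_inv_rev, hti, inv_inv, mul_assoc]
      simp only [mul_assoc]
    obtain ⟨w, hw, -, htq⟩ := exists_inv_mul_fix htt (X.odd_R (X.hWR hc0))
    have hwW : w ∈ bW 3 E := zpowers_le.mpr hc0 hw
    set y := w⁻¹ * q with hy
    have hyQ : y ∈ bQ 3 E := mul_mem (inv_mem (bW_le E hwW)) hq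
    have hval : X.S₂.val y = X.S₂.val q := by
      refine (X.S₂.val_eq_iff hyQ hq).mpr ?_
      rw [hy, mul_inv_cancel_right]
      exact inv_mem hwW
    have hyc : e' * y * e'⁻¹ = y := by
      have hmem : c⁻¹ * y * c ∈ X.Rp := by
        refine X.mem_Rp.mpr ⟨?_, ?_⟩
        · have := X.conj_mem_R (X.hQR hyQ) c⁻¹
          rwa [inv_inv] at this
        · calc X.j * (c⁻¹ * y * c) * X.j = c⁻¹ * (t * y * t) * c := by rw [ht]; group
            _ = _ := by rw [htq]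
      calc e' * y * e'⁻¹ = c * (e₂ * (c⁻¹ * y * c) * e₂⁻¹) * c⁻¹ := by rw [he']; group
        _ = y := by rw [h₂f _ hmem]; group
    rw [← hval, X.act_val (X.J1_le_normalizer.1 he₃J) (X.J1_le_normalizer.2 he₃J) hyQ]
    refine (X.S₂.val_eq_iff ((conj_mem_iff (X.J1_le_normalizer.1 he₃J) y).mpr hyQ) hyQ).mpr ?_
    have := X.R_trivOn s⁻¹ (inv_mem hsR) y hyQ
    convert this using 2
    rw [he₃, show s⁻¹ * e' * y * (s⁻¹ * e')⁻¹ = s⁻¹ * (e' * y * e'⁻¹) * s⁻¹⁻¹ by group, hyc]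
  -- the commutator
  set h := e₁ * e₃ * e₁⁻¹ * e₃⁻¹ with hh
  have he₁J := (X.E1_le_K1 h₁).1
  have hhJ : h ∈ X.J1 := mul_mem (mul_mem (mul_mem he₁J he₃J) (inv_mem he₁J)) (inv_mem he₃J)
  have h₁i : ∀ y ∈ X.Rp, e₁⁻¹ * y * e₁⁻¹⁻¹ = y := (X.mem_E1.mp (inv_mem h₁)).2.2
  have hhf : ∀ y ∈ X.Rp, h * y * h⁻¹ = y := by
    intro y hy
    calc h * y * h⁻¹
        = e₁ * (e₃ * (e₁⁻¹ * (e₃⁻¹ * y * e₃⁻¹⁻¹) * e₁⁻¹⁻¹) * e₃⁻¹) * e₁⁻¹ := by rw [hh]; group
      _ = e₁ * y * e₁⁻¹ := by rw [h₁i _ (X.J1_Rp (inv_mem he₃J) hy)]; group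
      _ = y := h₁f y hy
  have hhv : ∀ v, X.S₂.act h v = v := by
    intro v
    have hi : ∀ w, X.S₂.act e₃⁻¹ w = w := fun w => by
      have h1 := hact (X.S₂.act e₃⁻¹ w)
      rw [← X.act_mul (X.J1_le_normalizer.1 he₃J) (X.J1_le_normalizer.2 he₃J)
        (inv_mem (X.J1_le_normalizer.1 he₃J)) (inv_mem (X.J1_le_normalizer.2 he₃J)), mul_inv_cancel,
        X.S₂.act_one] at h1
      exact h1.symm
    obtain ⟨hQJ, hWJ⟩ := X.J1_le_normalizer
    rw [hh, X.act_mul (hQJ (mul_mem (mul_mem he₁J he₃J) (inv_mem he₁J)))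
        (hWJ (mul_mem (mul_mem he₁J he₃J) (inv_mem he₁J))) (hQJ (inv_mem he₃J))
        (hWJ (inv_mem he₃J)), hi,
      X.act_mul (hQJ (mul_mem he₁J he₃J)) (hWJ (mul_mem he₁J he₃J)) (hQJ (inv_mem he₁J))
        (hWJ (inv_mem he₁J)),
      X.act_mul (hQJ he₁J) (hWJ he₁J) (hQJ he₃J) (hWJ he₃J), hact,
      ← X.act_mul (hQJ he₁J) (hWJ he₁J) (hQJ (inv_mem he₁J)) (hWJ (inv_mem he₁J)), mul_inv_cancel,
      X.S₂.act_one]
  have hhM : ∀ m ∈ bM 3 E, h * m * h⁻¹ = m⁻¹ := by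
    intro m hm
    set k := e₁ * e₂ * e₁⁻¹ * e₂⁻¹ with hkdef
    have hkE : k ∈ E := mul_mem (mul_mem (mul_mem h₁E h₂E) (inv_mem h₁E)) (inv_mem h₂E)
    have hnM : ∀ {g : G}, g ∈ E → ∀ m ∈ bM 3 E, g * m * g⁻¹ ∈ bM 3 E := fun hg m hm =>
      (conj_mem_iff (le_normalizer_bM le_normalizer hg) m).mpr hm
    have hi : e₃⁻¹ * m * e₃⁻¹⁻¹ = e₂⁻¹ * m * e₂⁻¹⁻¹ := by
      have h1 := hM _ (hnM (inv_mem h₂E) m hm)
      rw [show e₂ * (e₂⁻¹ * m * e₂⁻¹⁻¹) * e₂⁻¹ = m by group] at h1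
      conv_lhs => rw [← h1]
      group
    have hmm : e₁⁻¹ * (e₂⁻¹ * m * e₂⁻¹⁻¹) * e₁⁻¹⁻¹ ∈ bM 3 E :=
      hnM (inv_mem h₁E) _ (hnM (inv_mem h₂E) m hm)
    have hhk : h * m * h⁻¹ = k * m * k⁻¹ := by
      calc h * m * h⁻¹
          = e₁ * (e₃ * (e₁⁻¹ * (e₃⁻¹ * m * e₃⁻¹⁻¹) * e₁⁻¹⁻¹) * e₃⁻¹) * e₁⁻¹ := by rw [hh]; group
        _ = e₁ * (e₂ * (e₁⁻¹ * (e₂⁻¹ * m * e₂⁻¹⁻¹) * e₁⁻¹⁻¹) * e₂⁻¹) * e₁⁻¹ := by
            rw [hi, hM _ hmm]
        _ = k * m * k⁻¹ := by rw [hkdef]; group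
    rw [hhk, ← mul_eq_one_iff_eq_inv]
    refine X.eq_one_of_mem_M_Z (mul_mem (hnM hkE m hm) hm) ?_
    rw [← X.S.val_eq_zero (mul_mem (bM_le_bW E (hnM hkE m hm)) (bM_le_bW E hm)),
      X.S.val_mul (bM_le_bW E (hnM hkE m hm)) (bM_le_bW E hm),
      X.S.val_conj hkE (bM_le_bW E hm), hk, neg_one_mulVec, neg_add_cancel]
  have hjK := X.E1_le_K1 X.j_mem_E1
  have hjC : h * X.j ∈ C := mem_centralizer_iff.mpr fun m hm => by
    have h1 : h * X.j * m * (h * X.j)⁻¹ = m := by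
      rw [_root_.mul_inv_rev, X.j_inv,
        show h * X.j * m * (X.j * h⁻¹) = h * (X.j * m * X.j) * h⁻¹ by group, X.j_inv_M hm,
        hhM _ (inv_mem hm), inv_inv]
    exact (mul_inv_eq_iff_eq_mul.mp h1).symm
  refine X.neg_false hP (g := h * X.j) (X.K1.mul_mem ⟨hhJ, hhf⟩ hjK) hjC fun v => ?_
  rw [X.act_mul (X.J1_le_normalizer.1 hhJ) (X.J1_le_normalizer.2 hhJ)
    (X.J1_le_normalizer.1 hjK.1) (X.J1_le_normalizer.2 hjK.1), hhv, X.act_E X.j_mem, X.j_mat₂,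
    neg_one_mulVec]

/-- The involution is isolated modulo the `3`-core. -/
theorem Ctx.isolated (hP : X.Fixed) {c : G} (hc : c ∈ centralizer (bM 3 E : Set G))
    (h : X.j * (c * X.j * c⁻¹) * X.j * (c * X.j * c⁻¹) ∈ X.N) :
    X.j * (c * X.j * c⁻¹) ∈ X.N := by
  set t := c * X.j * c⁻¹ with ht
  clear_value t
  have htt : t * t = 1 := by
    rw [ht, show c * X.j * c⁻¹ * (c * X.j * c⁻¹) = c * (X.j * X.j) * c⁻¹ by group, X.j_mul]; group
  have hti : t⁻¹ = t := inv_eq_of_mul_eq_one_right htt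
  set c0 := t * (X.j * t⁻¹ * X.j) with hc0
  have hc0N : c0 ∈ X.N := by
    have := inv_mem h
    rw [_root_.mul_inv_rev, _root_.mul_inv_rev, _root_.mul_inv_rev, hti, X.j_inv] at this
    rw [hc0, hti]
    convert this using 1
    group
  obtain ⟨x, hx, hjx, hjt⟩ := exists_inv_mul_fix X.j_mul
    (odd_orderOf_of_mem X.N_isPGroup (by decide) hc0N)
  have hxN : x ∈ X.N := zpowers_le.mpr hc0N hx
  have htx : t * x * t = x⁻¹ := by
    obtain ⟨k, rfl⟩ := mem_zpowers_iff.mp hx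
    have h1 : t * c0 * t⁻¹ = c0⁻¹ := by
      calc t * c0 * t⁻¹ = (t * t) * X.j * t⁻¹ * X.j * t⁻¹ := by rw [hc0]; group
        _ = X.j⁻¹ * t * X.j⁻¹ * t⁻¹ := by rw [htt, X.j_inv, hti, one_mul]
        _ = c0⁻¹ := by rw [hc0]; group
    have h2 := conj_zpow (i := k) (a := t) (b := c0)
    rw [h1, hti, _root_.inv_zpow] at h2
    exact h2.symm
  obtain ⟨y, hy, hyt⟩ :=
    exists_conj_of_inverted htt (odd_orderOf_of_mem X.N_isPGroup (by decide) hxN) htx
  have hc' : y * c ∈ centralizer (bM 3 E : Set G) :=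
    mul_mem (X.N_le_C (zpowers_le.mpr hxN hy)) hc
  have e1 : y * c * X.j * (y * c)⁻¹ = x⁻¹ * t := by rw [← hyt, ht]; group
  have hcom : X.j * (y * c * X.j * (y * c)⁻¹) = y * c * X.j * (y * c)⁻¹ * X.j := by
    rw [e1]
    conv_lhs => rw [← hjt]
    simp only [mul_assoc, X.jj_cancel, X.j_mul, mul_one]
  set t' := y * c * X.j * (y * c)⁻¹ with ht'
  have htt' : t' * t' = 1 := by
    rw [ht', show y * c * X.j * (y * c)⁻¹ * (y * c * X.j * (y * c)⁻¹) =
      y * c * (X.j * X.j) * (y * c)⁻¹ by group, X.j_mul]; group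
  have hxC : X.j * t' ∈ centralizer (bM 3 E : Set G) := by
    rw [ht', show X.j * (y * c * X.j * (y * c)⁻¹) = X.j * (y * c) * X.j * (y * c)⁻¹ by group]
    exact mul_mem (X.jcj_mem hc') (inv_mem hc')
  have hJ : X.j * t' ∈ X.J1 := X.mem_J1_of_commute (centralizer_le_normalizer _ hxC) (by
    rw [← mul_assoc, X.j_mul, one_mul, hcom])
  obtain ⟨a, ha⟩ := X.act_scalar hP hJ hxC
  have haa : a * a = 1 := by
    have h1 := X.act_mul (X.J1_le_normalizer.1 hJ) (X.J1_le_normalizer.2 hJ)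
      (X.J1_le_normalizer.1 hJ) (X.J1_le_normalizer.2 hJ) ![1, 0]
    rw [show X.j * t' * (X.j * t') = X.j * t' * (t' * X.j) by rw [hcom],
      show X.j * t' * (t' * X.j) = X.j * (t' * t') * X.j by group, htt', mul_one, X.j_mul,
      X.S₂.act_one, ha, ha, smul_smul] at h1
    have h2 := congrFun h1 0
    simpa using h2.symm
  rcases mul_self_eq_one_iff.mp haa with rfl | rfl
  · have h1 := X.mem_N_of_act_one hP hc' hJ hcom fun v => by rw [ha, one_smul]
    have hnj : X.j * x * X.j ∈ X.N := by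
      have := (conj_mem_iff (X.N_conj (le_normalizer_bM le_normalizer) X.j_mem) x).mpr hxN
      rwa [X.j_inv] at this
    have := mul_mem hnj h1
    convert this using 1
    rw [show y * c * X.j * (y * c)⁻¹ = x⁻¹ * t from e1]
    simp only [mul_assoc, X.jj_cancel, mul_inv_cancel_left]
  · exact (X.false_of_act_neg hP hc' hJ hcom fun v => by rw [ha, neg_smul, one_smul]).elim

theorem Ctx.O_le_C : X.O ≤ centralizer (bM 3 E : Set G) := map_subtype_le _

theorem Ctx.O_odd : Odd (Nat.card X.O) := by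
  rw [Ctx.O, card_map_of_injective (Subgroup.subtype_injective _)]
  exact Nat.coprime_two_right.1 PSolvable.pPrimeCore_coprime

theorem Ctx.O_conj {Y : Subgroup G} (hY : Y ≤ normalizer (bM 3 E : Set G)) :
    Y ≤ normalizer (X.O : Set G) := by
  intro g hg
  refine Amalgam.mem_normalizer_of_map_conj_eq ?_
  set C := centralizer (bM 3 E : Set G)
  have hC : C.map (MulAut.conj g).toMonoidHom = C :=
    Amalgam.map_conj_eq_of_mem_normalizer (le_normalizer_centralizer hY hg)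
  have key : ∀ D : Subgroup G, C.map (MulAut.conj g).toMonoidHom = D →
      ((oddCore ↥C).map C.subtype).map (MulAut.conj g).toMonoidHom = (oddCore ↥D).map D.subtype := by
    rintro D rfl
    unfold oddCore
    rw [← PSolvable.map_pPrimeCore_equiv (p := 2)
      (C.equivMapOfInjective (MulAut.conj g).toMonoidHom (MulAut.conj g).injective),
      Subgroup.map_map, Subgroup.map_map]
    congr 1
  exact key C hC

/-- The involution centralises `C(M)` modulo its odd core. -/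
theorem Ctx.commutator_j_mem_O (hP : X.Fixed) {c : G}
    (hc : c ∈ centralizer (bM 3 E : Set G)) : X.j * c * X.j⁻¹ * c⁻¹ ∈ X.O := by
  set C := centralizer (bM 3 E : Set G) with hCdef
  set H := C ⊔ zpowers X.j with hH
  have hjC : zpowers X.j ≤ normalizer (C : Set G) :=
    zpowers_le.mpr (X.le_normalizer_C.1 X.j_mem)
  have hjH : X.j ∈ H := mem_sup_right (mem_zpowers _)
  have hHM : H ≤ normalizer (bM 3 E : Set G) :=
    sup_le (centralizer_le_normalizer _) (zpowers_le.mpr (le_normalizer_bM le_normalizer X.j_mem))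
  haveI : (X.N.subgroupOf H).Normal := normal_subgroupOf_of_le_normalizer (X.N_conj hHM)
  set π := QuotientGroup.mk' (X.N.subgroupOf H)
  have hπ : ∀ (a b : H), π a = π b ↔ (a : G)⁻¹ * b ∈ X.N := fun a b => by
    simp [π, QuotientGroup.eq, mem_subgroupOf]
  set J : H := ⟨X.j, hjH⟩ with hJ
  have hiso : IsIsolatedInvolution (π J) := by
    refine ⟨orderOf_eq_prime ?_ ?_, ?_⟩
    · rw [sq, ← map_mul, show J * J = 1 from Subtype.ext X.j_mul, map_one]
    · intro h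
      rw [← map_one π, hπ] at h
      refine X.j_not_mem_C (X.N_le_C ?_)
      simpa [J, X.j_inv] using h
    · intro g
      obtain ⟨⟨h, hh⟩, rfl⟩ := QuotientGroup.mk'_surjective (X.N.subgroupOf H) g
      intro hcom
      have hh' : h ∈ ((C ⊔ zpowers X.j : Subgroup G) : Set G) := hh
      rw [coe_mul_of_right_le_normalizer_left _ _ hjC] at hh'
      obtain ⟨d, hd, z, hz, rfl⟩ := hh'
      obtain ⟨k, rfl⟩ := mem_zpowers_iff.mp hz
      have hdj : d * X.j ^ k * X.j * (d * X.j ^ k)⁻¹ = d * X.j * d⁻¹ := by group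
      have hcom' : π (J * (⟨d * X.j ^ k, hh⟩ * J * ⟨d * X.j ^ k, hh⟩⁻¹)) =
          π (⟨d * X.j ^ k, hh⟩ * J * ⟨d * X.j ^ k, hh⟩⁻¹ * J) := by
        simpa only [map_mul, map_inv] using hcom.eq
      have hN := (hπ _ _).mp hcom'.symm
      simp only [J, Subgroup.coe_mul, InvMemClass.coe_inv, hdj] at hN
      rw [_root_.mul_inv_rev, X.j_inv, show (d * X.j * d⁻¹)⁻¹ = d * X.j⁻¹ * d⁻¹ by group,
        X.j_inv] at hN
      rw [← map_inv, ← map_mul, ← map_mul]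
      rw [eq_comm, hπ]
      simp only [J, Subgroup.coe_mul, InvMemClass.coe_inv, hdj, X.j_inv]
      refine X.isolated hP hd ?_
      convert hN using 1
      group
  have hz := ZStar.zStar (H ⧸ X.N.subgroupOf H) (π J) hiso (π ⟨c, mem_sup_left hc⟩)
  rw [← map_inv, ← map_mul, ← map_mul, ← map_inv, ← map_mul] at hz
  set O1 := (oddCore (H ⧸ X.N.subgroupOf H)).comap π with hO1
  haveI : O1.Normal := by
    haveI := PSolvable.pPrimeCore_characteristic (p := 2) (G := H ⧸ X.N.subgroupOf H)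
    exact Normal.comap inferInstance _
  have hO1n : H ≤ normalizer ((O1.map H.subtype : Subgroup G) : Set G) :=
    Coprime.le_normalizer_of_conj_mem fun g hg x hx => by
      obtain ⟨y, hy, rfl⟩ := hx
      exact ⟨⟨g, hg⟩ * y * ⟨g, hg⟩⁻¹, Normal.conj_mem inferInstance y hy _, rfl⟩
  haveI : ((O1.map H.subtype ⊓ C).subgroupOf C).Normal :=
    normal_subgroupOf_of_le_normalizer <| Coprime.le_normalizer_of_conj_mem fun g hg x hx =>
      ⟨(conj_mem_iff (hO1n (mem_sup_left hg)) x).mpr hx.1, C.mul_mem (C.mul_mem hg hx.2) (C.inv_mem hg)⟩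
  have hO1odd : (Nat.card O1).Coprime 2 := by
    obtain ⟨k, hk⟩ := IsPGroup.iff_card.mp (X.N_isPGroup.comap_subtype (K := H))
    rw [hO1, PSolvable.card_comap_mk']
    refine Nat.Coprime.mul_left ?_ PSolvable.pPrimeCore_coprime
    show (Nat.card (X.N.comap H.subtype)).Coprime 2
    rw [hk]
    exact Nat.Coprime.pow_left _ (by decide)
  have hle : (O1.map H.subtype ⊓ C).subgroupOf C ≤ oddCore ↥C := by
    refine PSolvable.le_pPrimeCore ?_
    rw [Nat.card_congr (subgroupOfEquivOfLe inf_le_right).toEquiv]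
    refine hO1odd.coprime_dvd_left ((card_dvd_of_le inf_le_left).trans ?_)
    rw [card_map_of_injective (Subgroup.subtype_injective _)]
  have hmem : X.j * c * X.j⁻¹ * c⁻¹ ∈ O1.map H.subtype ⊓ C :=
    ⟨⟨_, hz, rfl⟩, C.mul_mem (by rw [X.j_inv]; exact X.jcj_mem hc) (C.inv_mem hc)⟩
  exact ⟨⟨_, hmem.2⟩, hle (mem_subgroupOf.mpr hmem), rfl⟩

end Cfsg.Agent.Lib.BTBlock.Cent
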