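import Cfsg.Agent.Lib.BTBlock.Cent.Isolated
import Cfsg.Agent.Lib.Coprime.Sylow
import Cfsg.Agent.Lib.Coprime.Quotient

/-!
# The odd core of `C(M)` is a `3`-group modulo the centraliser of the involution
-/

set_option autoImplicit false

namespace Cfsg.Agent.Lib.BTBlock.Cent

open Subgroup Cfsg Sub Subn Matrix Cfsg.Agent.Lib.SL2
open scoped commutatorElement

universe u

variable {G : Type u} [Group G] [Finite G]

/-- A group is the product of two subgroups of coprime index. -/
theorem exists_mul_of_coprime_index {H : Type*} [Group H] [Finite H] (A B : Subgroup H)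
    (h : A.index.Coprime B.index) (x : H) : ∃ a ∈ A, ∃ b ∈ B, x = a * b := by
  let f : A ⧸ B.subgroupOf A → H ⧸ B := Quotient.map' Subtype.val fun a b hab => by
    rw [QuotientGroup.leftRel_apply] at hab ⊢
    simpa [mem_subgroupOf] using hab
  have hf : Function.Injective f := by
    intro a b
    induction a using QuotientGroup.induction_on with
    | H a =>
      induction b using QuotientGroup.induction_on with
      | H b =>
        intro hab
        have hab' : ((a : H) : H ⧸ B) = ((b : H) : H ⧸ B) := hab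
        rw [QuotientGroup.eq] at hab' ⊢
        simpa [mem_subgroupOf] using hab'
  have hdvd : B.index ∣ B.relIndex A := by
    refine h.symm.dvd_of_dvd_mul_right ?_
    rw [← inf_relIndex_left, relIndex_mul_index inf_le_left]
    exact index_dvd_of_le inf_le_right
  have hcard : Nat.card (A ⧸ B.subgroupOf A) = Nat.card (H ⧸ B) := by
    refine le_antisymm (Nat.card_le_card_of_injective f hf) ?_
    exact Nat.le_of_dvd (Nat.pos_of_ne_zero (index_ne_zero_of_finite)) hdvd
  obtain ⟨a, ha⟩ := ((Nat.bijective_iff_injective_and_card f).mpr ⟨hf, hcard⟩).2 (x : H ⧸ B)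
  induction a using QuotientGroup.induction_on with
  | H a =>
    have ha' : ((a : H) : H ⧸ B) = (x : H ⧸ B) := ha
    exact ⟨a, a.2, (a : H)⁻¹ * x, QuotientGroup.eq.mp ha', (mul_inv_cancel_left _ _).symm⟩

variable [Fact (Nat.Prime 3)]

/-- The derived group of `O_3(G)` in `G`. -/
abbrev derR (G : Type u) [Group G] : Subgroup G :=
  (commutator ↥(pCore 3 G)).map (pCore 3 G).subtype

theorem derR_le : derR G ≤ pCore 3 G := map_subtype_le _

theorem le_normalizer_derR (Y : Subgroup G) : Y ≤ normalizer (derR G : Set G) :=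
  (BTBlock.le_normalizer_pCore Y).trans
    (Coprime.normalizer_le_normalizer_map_of_characteristic (commutator ↥(pCore 3 G)))

/-- A `3'`-element trivial on the abelianisation of `O_3(G)` centralises it. -/
theorem fix_of_trivOn_derived {g : G} (hco : (orderOf g).Coprime 3)
    (ht : TrivOn (pCore 3 G) (derR G) g) : ∀ r ∈ pCore 3 G, g * r * g⁻¹ = r := by
  have hmem : g ∈ trivSub (pCore 3 G) (derR G) :=
    ⟨⟨BTBlock.le_normalizer_pCore ⊤ (mem_top g), le_normalizer_derR ⊤ (mem_top g)⟩, ht⟩
  have hle := Coprime.le_centralizer_of_frattini (A := zpowers g) (K := pCore 3 G)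
    (BTBlock.le_normalizer_pCore _) ?_ ?_
  · intro r hr
    rw [← mem_centralizer_iff.mp (hle (mem_zpowers g)) r hr, mul_inv_cancel_right]
  · obtain ⟨k, hk⟩ := IsPGroup.iff_card.mp
      ((PSolvable.pCore_isPGroup (p := 3) (G := G)).to_subgroup (frattini ↥(pCore 3 G)))
    rw [Nat.card_zpowers, hk]
    exact hco.pow_right k
  · intro a ha r hr
    exact map_mono (Transfer.commutator_le_frattini_of_isPGroup PSolvable.pCore_isPGroup)
      ((zpowers_le.mpr hmem ha).2 r hr)

variable {T : Sylow 3 G} {E : Subgroup G} {F : Type} [Field F] [Fintype F] [CharP F 3]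
  (X : Ctx T E F)

include X

/-- A subgroup equal to its commutator with the involution acts trivially where the involution does. -/
theorem Ctx.le_trivSub_of_commutator {S A B : Subgroup G} (hS : (⁅S, zpowers X.j⁆ : Subgroup G) = S)
    (hSA : S ≤ normalizer (A : Set G)) (hSB : S ≤ normalizer (B : Set G))
    (hj : X.j ∈ trivSub A B) : S ≤ trivSub A B := by
  rw [← hS, commutator_le]
  intro s hs g hg
  have := inv_mem (commutator_mem_trivSub (zpowers_le.mpr hj hg) (hSA hs) (hSB hs))
  rw [commutatorElement_def]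
  convert this using 1
  group

theorem Ctx.zpowers_j_cases {g : G} (hg : g ∈ zpowers X.j) : g = 1 ∨ g = X.j := by
  obtain ⟨k, rfl⟩ := mem_zpowers_iff.mp hg
  rcases Int.even_or_odd k with ⟨n, rfl⟩ | ⟨n, rfl⟩
  · left; rw [← two_mul, _root_.zpow_mul, zpow_two, X.j_mul, _root_.one_zpow]
  · right; rw [_root_.zpow_add, _root_.zpow_mul, zpow_two, X.j_mul, _root_.one_zpow, one_mul, zpow_one]

theorem Ctx.exists_i : ∃ i ∈ X.E1, i * i = X.j := by
  obtain ⟨e, he, -, -, hee, -⟩ := X.exists_pair
  obtain ⟨heE, -, -⟩ := X.mem_E1.mp he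
  set m := ordCompl[2] (orderOf e) with hm
  have hmodd : Odd m := by
    rw [Nat.odd_iff, ← Nat.two_dvd_ne_zero]
    exact Nat.not_dvd_ordCompl Nat.prime_two (orderOf_pos e).ne'
  set i := e ^ m with hi
  have hiE : i ∈ E := pow_mem heE m
  have hi1 : i ∈ X.E1 := pow_mem he m
  have hpow : ∀ k : ℕ, X.S.mat (e ^ k) = (X.S.mat e) ^ k := by
    intro k
    induction k with
    | zero => rw [pow_zero, pow_zero, X.S.mat_eq (one_mem E)]; exact map_one X.S.ρ
    | succ k ih => rw [pow_succ, pow_succ, X.S.mat_mul (pow_mem heE k) heE, ih]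
  have hii : X.S.mat (i * i) = -1 := by
    rw [hi, ← pow_add, ← two_mul, hpow, pow_mul, pow_two, hee, hmodd.neg_one_pow]
  refine ⟨i, hi1, ?_⟩
  have hij : X.j * (i * i) = i * i * X.j := by
    have h1 := (X.mem_E1.mp (mul_mem hi1 hi1)).2.1
    conv_rhs => rw [← h1]
    rw [mul_assoc, X.j_mul, mul_one]
  have hQ : i * i * X.j ∈ bQ 3 E := by
    refine X.S.mem_bQ_of_mat_one X.hb (mul_mem (mul_mem hiE hiE) X.j_mem) ?_
    rw [X.S.mat_mul (mul_mem hiE hiE) X.j_mem, hii, X.j_mat]
    simp
  have h4 : orderOf (i * i * X.j) ∣ 2 * 2 ^ (orderOf e).factorization 2 := by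
    refine orderOf_dvd_of_pow_eq_one ?_
    rw [(show Commute (i * i) X.j from hij.symm).mul_pow, hi, ← pow_add, ← pow_mul,
      show (m + m) * (2 * 2 ^ (orderOf e).factorization 2) = orderOf e * 4 by
        conv_rhs => rw [← Nat.ordProj_mul_ordCompl_eq_self (orderOf e) 2]
        ring,
      pow_mul, pow_orderOf_eq_one, one_pow, one_mul, pow_mul, pow_two, X.j_mul, one_pow]
  have h1 : i * i * X.j = 1 := by
    refine eq_one_of_mem_of_coprime (isPGroup_bQ E) hQ (Nat.Coprime.coprime_dvd_left h4 ?_)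
    rw [← pow_succ']
    exact Nat.Coprime.pow_left _ (by norm_num)
  rw [eq_inv_of_mul_eq_one_left h1, X.j_inv]

/-- An `r`-subgroup of `C(M)` normalised by `i` is centralised by the involution. -/
theorem Ctx.fix_of_invariant (hP : X.Fixed) {i : G} (hi : i ∈ X.E1) (hii : i * i = X.j)
    {r : ℕ} [Fact r.Prime] (hr : r ≠ 3) (hr2 : Odd r) :
    ∀ (n : ℕ) (S : Subgroup G), Nat.card S = n → IsPGroup r S →
      S ≤ centralizer (bM 3 E : Set G) → i ∈ normalizer (S : Set G) →
      ∀ s ∈ S, X.j * s * X.j = s := by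
  intro n
  induction n using Nat.strong_induction_on with
  | _ n ih =>
  intro S hn hS hSC hiS
  obtain ⟨hiE, -, hif⟩ := X.mem_E1.mp hi
  have hjS : X.j ∈ normalizer (S : Set G) := hii ▸ mul_mem hiS hiS
  have hco : ∀ {s : G}, s ∈ S → (orderOf s).Coprime 3 := by
    intro s hs
    obtain ⟨k, hk⟩ := IsPGroup.iff_orderOf.mp hS ⟨s, hs⟩
    rw [orderOf_mk] at hk
    rw [hk]
    exact Nat.Coprime.pow_left k ((Nat.coprime_primes Fact.out (Fact.out : Nat.Prime 3)).mpr hr)
  have hodd : ∀ {s : G}, s ∈ S → Odd (orderOf s) := fun hs => odd_orderOf_of_mem hS hr2 hs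
  have hsub : ∀ S' : Subgroup G, S' ≤ S → S' ≠ S → i ∈ normalizer (S' : Set G) →
      ∀ s ∈ S', X.j * s * X.j = s := by
    intro S' hle hne hi'
    refine ih _ ?_ S' rfl (hS.to_le hle) (hle.trans hSC) hi'
    rw [← hn]
    exact lt_of_le_of_ne (card_le_of_le hle) fun h => hne (eq_of_le_of_card_ge hle h.ge)
  have hjN : zpowers X.j ≤ normalizer (S : Set G) := zpowers_le.mpr hjS
  have hcop : (Nat.card (zpowers X.j)).Coprime (Nat.card (⁅S, zpowers X.j⁆ : Subgroup G)) := by
    obtain ⟨k, hk⟩ := IsPGroup.iff_card.mp (hS.to_le (Coprime.commutator_le_of_le_normalizer hjN))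
    rw [Nat.card_zpowers, hk]
    refine Nat.Coprime.coprime_dvd_left (orderOf_dvd_of_pow_eq_one (n := 2) ?_) ?_
    · rw [pow_two, X.j_mul]
    · exact Nat.Coprime.pow_right k ((Nat.coprime_primes Nat.prime_two Fact.out).mpr fun h => by
        subst h; exact absurd hr2 (by decide))
  have hij : i * X.j * i⁻¹ = X.j := by rw [← hii]; group
  by_cases hcom : (⁅S, zpowers X.j⁆ : Subgroup G) = S
  swap
  · have hle := Coprime.commutator_le_of_le_normalizer hjN
    have hin : i ∈ normalizer ((⁅S, zpowers X.j⁆ : Subgroup G) : Set G) :=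
      Coprime.le_normalizer_commutator (zpowers_le.mpr hiS) (by
        refine zpowers_le.mpr (Amalgam.mem_normalizer_of_map_conj_eq ?_)
        rw [MonoidHom.map_zpowers]
        exact congrArg zpowers hij) (mem_zpowers i)
    have hfix := hsub _ hle hcom hin
    have h2 : ⁅⁅S, zpowers X.j⁆, zpowers X.j⁆ = ⊥ := by
      rw [commutator_eq_bot_iff_le_centralizer]
      intro s hs
      refine mem_centralizer_iff.mpr fun g hg => ?_
      rcases X.zpowers_j_cases hg with rfl | rfl
      · simp
      · conv_rhs => rw [← hfix s hs]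
        rw [mul_assoc, X.j_mul, mul_one]
    rw [Coprime.commutator_commutator_eq hjN hcop, commutator_eq_bot_iff_le_centralizer] at h2
    intro s hs
    rw [mem_centralizer_iff.mp (h2 hs) X.j (mem_zpowers _), mul_assoc, X.j_mul, mul_one]
  -- `S = [S, j]`
  suffices hR : ∀ s ∈ S, ∀ x ∈ pCore 3 G, s * x * s⁻¹ = x by
    intro s hs
    rw [eq_one_of_fix X.hG (hco hs) (hR s hs), mul_one, X.j_mul]
  by_cases hab : ∀ a ∈ S, ∀ b ∈ S, a * b = b * a
  · -- the abelian case: averaging
    have hinv : ∀ s ∈ S, X.j * s * X.j = s⁻¹ := by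
      let I : Subgroup G :=
        { carrier := {s | s ∈ S ∧ X.j * s * X.j = s⁻¹}
          one_mem' := ⟨one_mem _, by simp [X.j_mul]⟩
          mul_mem' := fun {a b} ha hb => ⟨mul_mem ha.1 hb.1, by
            rw [X.conj_mul, ha.2, hb.2, hab _ (inv_mem ha.1) _ (inv_mem hb.1),
              ← _root_.mul_inv_rev]⟩
          inv_mem' := fun {a} ha => ⟨inv_mem ha.1, X.conj_inv ha.2⟩ }
      suffices hle : ⁅S, zpowers X.j⁆ ≤ I by
        intro s hs
        exact (hle (hcom.symm ▸ hs)).2
      rw [commutator_le]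
      intro s hs g hg
      have hmem : ⁅s, g⁆ ∈ S := hcom.le (commutator_mem_commutator hs hg)
      refine ⟨hmem, ?_⟩
      rcases X.zpowers_j_cases hg with rfl | rfl
      · simp [X.j_mul]
      · have hjs : X.j * s * X.j ∈ S := by
          have := (conj_mem_iff hjS s).mpr hs
          rwa [X.j_inv] at this
        have e1 : ⁅s, X.j⁆ = s * (X.j * s * X.j)⁻¹ := by
          rw [← X.conj_inv rfl, commutatorElement_def, X.j_inv]; group
        rw [e1, X.conj_mul, X.conj_inv (X.conj_conj rfl), hab _ hjs _ (inv_mem hs),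
          _root_.mul_inv_rev, inv_inv]
        exact hab _ (inv_mem hs) _ hjs
    letI : Fintype S := Fintype.ofFinite S
    let α : G → (Abelianization ↥(pCore 3 G) →* Abelianization ↥(pCore 3 G)) := fun g =>
      Abelianization.map (MulAut.conjNormal g).toMonoidHom
    have hα : ∀ (g : G) (x : pCore 3 G),
        α g (Abelianization.of x) = Abelianization.of (MulAut.conjNormal g x) := fun g x => rfl
    have hαmul : ∀ g h a, α (g * h) a = α g (α h a) := by
      intro g h a
      induction a using QuotientGroup.induction_on with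
      | H x => exact congrArg Abelianization.of (by rw [map_mul]; rfl)
    have hα1 : ∀ a, α 1 a = a := by
      intro a
      induction a using QuotientGroup.induction_on with
      | H x => exact congrArg Abelianization.of (by rw [map_one]; rfl)
    have hid : ∀ a, α i a * α (i * X.j) a = a * α X.j a := by
      intro a
      induction a using QuotientGroup.induction_on with
      | H x =>
        obtain ⟨x₁, hx₁, hjx, y, hy, hxy⟩ := X.decomp x.2
        have hx : x = (⟨x₁, X.hQR hx₁⟩ : pCore 3 G) * ⟨y, hy.1⟩ := Subtype.ext hxy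
        show α i (Abelianization.of x) * α (i * X.j) (Abelianization.of x) =
          Abelianization.of x * α X.j (Abelianization.of x)
        set a := Abelianization.of (⟨x₁, X.hQR hx₁⟩ : pCore 3 G)
        set b := Abelianization.of (⟨y, hy.1⟩ : pCore 3 G)
        have hja : α X.j a = a⁻¹ := by
          rw [hα, ← map_inv]
          exact congrArg Abelianization.of (Subtype.ext (by simp [X.j_inv, hjx]))
        have hjb : α X.j b = b := by
          rw [hα]
          exact congrArg Abelianization.of (Subtype.ext (by simp [X.j_inv, (X.mem_Rp.mp hy).2]))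
        have hib : α i b = b := by
          rw [hα]
          exact congrArg Abelianization.of (Subtype.ext (by simp [hif y hy]))
        rw [hx, map_mul, map_mul, map_mul, map_mul, hαmul, hαmul, hja, hjb, map_inv, hib,
          mul_mul_mul_comm, mul_inv_cancel, mul_mul_mul_comm a b, mul_inv_cancel]
    -- the reindexing maps
    have hiconj : ∀ s : S, i * s * i⁻¹ ∈ S := fun s => (conj_mem_iff hiS s).mpr s.2
    let σ : S → S := fun s => ⟨i * s * i⁻¹, hiconj s⟩
    have hσmul : ∀ a b, σ (a * b) = σ a * σ b := fun a b => Subtype.ext (by simp [σ, mul_assoc])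
    have hσinv : ∀ a, σ a⁻¹ = (σ a)⁻¹ := fun a => Subtype.ext (by simp [σ, mul_assoc])
    have hσ2 : ∀ u : S, σ (σ u) = u⁻¹ := fun u => Subtype.ext (by
      show i * (i * u * i⁻¹) * i⁻¹ = (u : G)⁻¹
      rw [show i * (i * (u : G) * i⁻¹) * i⁻¹ = i * i * u * (i * i)⁻¹ by group, hii, X.j_inv,
        hinv u u.2])
    have hsq : ∀ u : S, u * u = 1 → u = 1 := by
      intro u h
      refine Subtype.ext ?_
      obtain ⟨k, hk⟩ := hodd u.2
      have h1 := pow_orderOf_eq_one (u : G)
      rw [hk, pow_succ, pow_mul, pow_two, show (u : G) * u = 1 from congrArg Subtype.val h,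
        one_pow, one_mul] at h1
      exact h1
    have hSc : ∀ a b : S, a * b = b * a := fun a b => Subtype.ext (hab a a.2 b b.2)
    have hfpf : ∀ u : S, σ u = u ∨ σ u = u⁻¹ → u = 1 := by
      intro u hu
      refine hsq u ?_
      rcases hu with h | h
      · have := hσ2 u
        rw [h, h] at this
        conv_lhs => arg 2; rw [this]
        exact mul_inv_cancel u
      · have := hσ2 u
        rw [h, hσinv, h, inv_inv] at this
        conv_lhs => arg 2; rw [this]
        exact mul_inv_cancel u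
    have hφ : Function.Bijective fun s : S => s * (σ s)⁻¹ := by
      refine Finite.injective_iff_bijective.mp fun a b hab' => ?_
      have := hfpf (a⁻¹ * b) (Or.inl ?_)
      · exact inv_mul_eq_one.mp this
      · rw [hσmul, hσinv]
        calc (σ a)⁻¹ * σ b = a⁻¹ * (a * (σ a)⁻¹) * σ b := by group
          _ = a⁻¹ * b := by rw [show a * (σ a)⁻¹ = b * (σ b)⁻¹ from hab']; group
    have hψ : Function.Bijective fun s : S => s * σ s := by
      refine Finite.injective_iff_bijective.mp fun a b hab' => ?_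
      have := hfpf (a⁻¹ * b) (Or.inr ?_)
      · exact inv_mul_eq_one.mp this
      · rw [hσmul, hσinv, _root_.mul_inv_rev, inv_inv]
        calc (σ a)⁻¹ * σ b = (σ a)⁻¹ * b⁻¹ * (b * σ b) := by group
          _ = (σ a)⁻¹ * b⁻¹ * (a * σ a) := by rw [show a * σ a = b * σ b from hab']
          _ = _ := by rw [hSc (σ a)⁻¹ b⁻¹, hSc a (σ a), mul_assoc, inv_mul_cancel_left]
    have hχ : Function.Bijective fun s : S => s * s := by
      refine Finite.injective_iff_bijective.mp fun a b hab' => ?_
      refine inv_mul_eq_one.mp (hsq (a⁻¹ * b) ?_)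
      calc a⁻¹ * b * (a⁻¹ * b) = a⁻¹ * (b * a⁻¹) * b := by group
        _ = (a * a)⁻¹ * (b * b) := by rw [hSc b a⁻¹]; group
        _ = 1 := by rw [show a * a = b * b from hab', inv_mul_cancel]
    let Nm : Abelianization ↥(pCore 3 G) → Abelianization ↥(pCore 3 G) := fun a =>
      ∏ s : S, α (s : G) a
    have hNfix : ∀ (t : S) a, α (t : G) (Nm a) = Nm a := by
      intro t a
      simp only [Nm, map_prod, ← hαmul]
      exact (Equiv.mulLeft t).bijective.prod_comp fun s : S => α (s : G) a
    have hkey : ∀ a, Nm (α i a) * Nm (α (i * X.j) a) = a ^ Nat.card S * Nm (α X.j a) := by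
      intro a
      have h1 : ∀ s : S, α ((s * (σ s)⁻¹ : S) : G) (α i a) * α ((s * σ s : S) : G) (α (i * X.j) a) =
          a * α ((s * s : S) : G) (α X.j a) := by
        intro s
        have h := congrArg (α (s : G)) (hid (α (s : G)⁻¹ a))
        have hconj : ∀ g u : G, (s : G) * g * (s : G)⁻¹ = u * g →
            α (s : G) (α g (α (s : G)⁻¹ a)) = α u (α g a) := fun g u hgu => by
          rw [← hαmul, ← hαmul, ← hαmul, ← hgu]
        have hb : α (s : G) (α (s : G)⁻¹ a) = a := by rw [← hαmul, mul_inv_cancel, hα1]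
        have e1 : (s : G) * i * (s : G)⁻¹ = ((s * (σ s)⁻¹ : S) : G) * i := by
          simp only [σ, Subgroup.coe_mul, InvMemClass.coe_inv]; group
        have hjs : X.j * (s : G)⁻¹ = s * X.j := by
          rw [← hinv s s.2, mul_assoc X.j, X.jj_cancel]
        have e2 : (s : G) * (i * X.j) * (s : G)⁻¹ = ((s * σ s : S) : G) * (i * X.j) := by
          simp only [σ, Subgroup.coe_mul]
          rw [mul_assoc, mul_assoc i, hjs]; group
        have e3 : (s : G) * X.j * (s : G)⁻¹ = ((s * s : S) : G) * X.j := by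
          rw [Subgroup.coe_mul, mul_assoc, hjs]; group
        rw [map_mul, map_mul, hconj _ _ e1, hconj _ _ e2, hconj _ _ e3, hb] at h
        exact h
      have h2 := Finset.prod_congr (s₁ := (Finset.univ : Finset S)) rfl fun s _ => h1 s
      rw [Finset.prod_mul_distrib, Finset.prod_mul_distrib, Finset.prod_const, Finset.card_univ,
        ← Nat.card_eq_fintype_card] at h2
      rw [hφ.prod_comp fun u : S => α (u : G) (α i a),
        hψ.prod_comp fun u : S => α (u : G) (α (i * X.j) a),
        hχ.prod_comp fun u : S => α (u : G) (α X.j a)] at h2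
      exact h2
    intro s hs
    refine fix_of_trivOn_derived (hco hs) fun x hx => ?_
    have hfix : ∀ a, α s a = a := by
      intro a
      have h1 : α s (a ^ Nat.card S) = a ^ Nat.card S := by
        rw [eq_mul_inv_of_mul_eq (hkey a).symm]
        have hf : ∀ b, α s (Nm b) = Nm b := fun b => hNfix ⟨s, hs⟩ b
        rw [map_mul, map_mul, map_inv, hf, hf, hf]
      obtain ⟨k, hk⟩ := IsPGroup.iff_card.mp hS
      obtain ⟨m, hm⟩ := exists_pow_eq_self_of_coprime (x := a) (n := Nat.card S) (by
        induction a using QuotientGroup.induction_on with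
        | H x =>
          refine Nat.Coprime.coprime_dvd_right (orderOf_map_dvd Abelianization.of x) ?_
          obtain ⟨l, hl⟩ := IsPGroup.iff_orderOf.mp (PSolvable.pCore_isPGroup (p := 3) (G := G)) x
          rw [hl, hk]
          exact Nat.Coprime.pow _ _ ((Nat.coprime_primes Fact.out Fact.out).mpr hr))
      rw [← hm, map_pow, h1]
    have := hfix (Abelianization.of ⟨x, hx⟩)
    rw [hα, ← mul_inv_eq_one, ← map_inv, ← map_mul, ← MonoidHom.mem_ker, Abelianization.ker_of]
      at this
    exact ⟨_, this, by simp⟩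
  · -- the nonabelian case
    push Not at hab
    obtain ⟨a₀, ha₀, b₀, hb₀, hne⟩ := hab
    haveI : Nontrivial S := ⟨⟨⟨a₀, ha₀⟩, 1, fun h => hne (by
      rw [show a₀ = 1 from congrArg Subtype.val h]; simp)⟩⟩
    set Zc := (center S).map S.subtype with hZc
    have hZle : Zc ≤ S := map_subtype_le _
    have hZne : Zc ≠ S := fun h => hne <| by
      have hmem : a₀ ∈ Zc := h.ge ha₀
      obtain ⟨c, hc, rfl⟩ := hmem
      exact (congrArg Subtype.val (mem_center_iff.mp hc ⟨b₀, hb₀⟩)).symm
    have hiZ : i ∈ normalizer (Zc : Set G) :=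
      Coprime.normalizer_le_normalizer_map_of_characteristic (center S) hiS
    have hZfix := hsub Zc hZle hZne hiZ
    haveI := IsPGroup.center_nontrivial hS
    obtain ⟨⟨c, hc⟩, hc1⟩ := exists_ne (1 : center S)
    set z := (c : G) with hz
    have hzS : z ∈ S := c.2
    have hzj : X.j * z * X.j = z := hZfix z ⟨c, hc, rfl⟩
    have hzcen : ∀ s ∈ S, s * z = z * s := fun s hs =>
      congrArg Subtype.val (mem_center_iff.mp hc ⟨s, hs⟩)
    have hzC : z ∈ centralizer (bM 3 E : Set G) := hSC hzS
    have hzJ : z ∈ X.J1 := X.mem_J1_of_commute (centralizer_le_normalizer _ hzC) hzj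
    have hzQ := X.J1_le_normalizer.1 hzJ
    have hzW := X.J1_le_normalizer.2 hzJ
    -- `S` fixes `W`
    set U := omegaOneCenter 3 (pCore 3 G) with hU
    have hUnorm : ∀ g : G, g ∈ normalizer (U : Set G) := fun g => mem_normalizer_iff.mpr fun x =>
      ⟨fun hx => conj_mem_bU g hx, fun hx => by
        have := conj_mem_bU g⁻¹ hx
        rwa [show g⁻¹ * (g * x * g⁻¹) * g⁻¹⁻¹ = x by group] at this⟩
    have hMn : S ≤ normalizer (bM 3 E : Set G) := hSC.trans (centralizer_le_normalizer _)
    have hjU : X.j ∈ trivSub U (bM 3 E) := by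
      refine ⟨⟨hUnorm _, le_normalizer_bM le_normalizer X.j_mem⟩, fun u hu => ?_⟩
      obtain ⟨huR, huc, -⟩ := omegaOneCenter_props 3 (pCore 3 G)
      have hjuU : X.j * u⁻¹ * X.j ∈ U := by
        have := conj_mem_bU (p := 3) X.j (inv_mem hu)
        rwa [X.j_inv] at this
      have hc0 : u * (X.j * u⁻¹ * X.j) ∈ U := mul_mem hu hjuU
      obtain ⟨x, hx, hjx, hjy⟩ := exists_inv_mul_fix X.j_mul (X.odd_R (huR hc0))
      have hxU : x ∈ U := zpowers_le.mpr hc0 hx
      have hxQ : x ∈ bQ 3 E := X.inv_mem_Q (huR hxU) hjx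
      have hxW : x ∈ bW 3 E := by
        refine subset_closure ⟨⟨hxQ, mem_centralizer_iff.mpr fun q hq => ?_⟩,
          (omegaOneCenter_props 3 _).2.2 x hxU⟩
        exact mem_centralizer_iff.mp (huc hxU) q (X.hQR hq)
      have hxM := X.mem_M_of_inv hxW hjx
      have hju : X.j * u * X.j⁻¹ * u⁻¹ = x⁻¹ * (x⁻¹ * u * u⁻¹) := by
        conv_lhs => rw [show u = x * (x⁻¹ * u) by group]
        rw [X.j_inv, X.conj_mul, hjx, hjy]; group
      rw [hju]
      exact mul_mem (inv_mem hxM) (by rw [mul_inv_cancel_right]; exact inv_mem hxM)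
    have hSU := X.le_trivSub_of_commutator hcom (fun s _ => hUnorm s) hMn hjU
    have hWU : bW 3 E ≤ U := fun w hw => subset_closure
      ⟨⟨X.hWR hw, mem_centralizer_iff.mpr fun x hx => X.R_fix_W hx hw⟩,
        (omegaOneCenter_props 3 _).2.2 w hw⟩
    have hSW : ∀ s ∈ S, ∀ w ∈ bW 3 E, s * w * s⁻¹ = w := fun s hs w hw => by
      refine fix_of_trivOn (PSolvable.pCore_isPGroup.to_le X.hMR) (hco hs) (hSU hs).2
        (fun m hm => ?_) w (hWU hw)
      rw [← mem_centralizer_iff.mp (hSC hs) m hm, mul_inv_cancel_right]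
    have hzZ : ∀ w ∈ bZ 3 E, z * w * z⁻¹ = w := fun w hw => hSW z hzS w hw.1
    obtain ⟨l, hl⟩ := X.act_scalar hP hzJ hzC
    have hll : l * l = 1 := by
      have h := X.det_preserved hzQ hzW hzZ ![1, 0] ![0, 1]
      rw [hl, hl] at h
      simpa [det2] using h
    have hl1 : l = 1 := by
      rcases mul_self_eq_one_iff.mp hll with h | h
      · exact h
      exfalso
      have hneg : ∀ k : ℕ, ∀ v, X.S₂.act (z ^ k) v = (-1 : F) ^ k • v := by
        intro k
        induction k with
        | zero => intro v; rw [pow_zero, pow_zero, X.S₂.act_one, one_smul]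
        | succ k ih =>
          intro v
          rw [pow_succ, X.act_mul (pow_mem hzQ k) (pow_mem hzW k) hzQ hzW, hl, h, ih, pow_succ,
            smul_smul]
      obtain ⟨k, hk⟩ := hodd hzS
      have h1 := hneg (orderOf z) ![1, 0]
      rw [pow_orderOf_eq_one, X.S₂.act_one, hk, (odd_two_mul_add_one k).neg_one_pow] at h1
      have h2 := congrFun h1 0
      simp at h2
      exact two_ne_zero' (F := F) (by linear_combination h2)
    have hzfixQ : ∀ q ∈ bQ 3 E, z * q * z⁻¹ = q := by
      refine fix_of_trivOn (PSolvable.pCore_isPGroup.to_le X.hWR) (hco hzS) (fun q hq => ?_)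
        (hSW z hzS)
      refine (X.S₂.val_eq_iff ((conj_mem_iff hzQ q).mpr hq) hq).mp ?_
      rw [← X.act_val hzQ hzW hq, hl, hl1, one_smul]
    -- the kernel of the commutator with `z` modulo the derived group
    have hDn : ∀ g : G, ∀ d ∈ derR G, g * d * g⁻¹ ∈ derR G := fun g d hd =>
      (conj_mem_iff (le_normalizer_derR ⊤ (mem_top g)) d).mpr hd
    let Kz : Subgroup G :=
      { carrier := {x | x ∈ pCore 3 G ∧ z * x * z⁻¹ * x⁻¹ ∈ derR G}
        one_mem' := ⟨one_mem _, by simp [one_mem]⟩
        mul_mem' := fun {a b} ha hb => ⟨mul_mem ha.1 hb.1, by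
          have := (derR G).mul_mem ha.2 (hDn a _ hb.2)
          convert this using 1
          group⟩
        inv_mem' := fun {a} ha => ⟨inv_mem ha.1, by
          have := hDn a⁻¹ _ ((derR G).inv_mem ha.2)
          convert this using 1
          group⟩ }
    have hconjKz : ∀ g : G, g * z * g⁻¹ = z → ∀ x ∈ Kz, g * x * g⁻¹ ∈ Kz := by
      intro g hg x hx
      refine ⟨X.conj_mem_R hx.1 g, ?_⟩
      have := hDn g _ hx.2
      convert this using 1
      conv_lhs => rw [← hg]
      group
    have hKzn : ∀ g : G, g * z * g⁻¹ = z → g ∈ normalizer (Kz : Set G) := fun g hg =>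
      mem_normalizer_iff.mpr fun x => ⟨hconjKz g hg x, fun hx => by
        have hg' : g⁻¹ * z * g⁻¹⁻¹ = z := by
          conv_lhs => rw [← hg]
          group
        have := hconjKz g⁻¹ hg' _ hx
        rwa [show g⁻¹ * (g * x * g⁻¹) * g⁻¹⁻¹ = x by group] at this⟩
    have hjK : X.j ∈ trivSub (pCore 3 G) Kz := by
      refine ⟨⟨BTBlock.le_normalizer_pCore ⊤ (mem_top _), hKzn _ (by rw [X.j_inv]; exact hzj)⟩,
        fun x hx => ?_⟩
      obtain ⟨x₁, hx₁, hjx, y, hy, rfl⟩ := X.decomp hx
      have hmem : x₁⁻¹ * x₁⁻¹ ∈ bQ 3 E := mul_mem (inv_mem hx₁) (inv_mem hx₁)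
      have e : X.j * (x₁ * y) * X.j⁻¹ * (x₁ * y)⁻¹ = x₁⁻¹ * x₁⁻¹ := by
        rw [X.j_inv, X.conj_mul, hjx, (X.mem_Rp.mp hy).2]; group
      rw [e]
      refine ⟨X.hQR hmem, ?_⟩
      rw [hzfixQ _ hmem, mul_inv_cancel]
      exact one_mem _
    have hSK := X.le_trivSub_of_commutator hcom (BTBlock.le_normalizer_pCore S)
      (fun s hs => hKzn s (by rw [hzcen s hs, mul_inv_cancel_right])) hjK
    have hzN := BTBlock.le_normalizer_pCore (p := 3) (zpowers z)
    have hle1 : ⁅pCore 3 G, zpowers z⁆ ≤ Kz := by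
      rw [commutator_le]
      intro x hx g hg
      have := inv_mem ((zpowers_le.mpr (hSK hzS) hg).2 x hx)
      rwa [← commutatorElement_def, commutatorElement_inv] at this
    have hzKD : z ∈ trivSub Kz (derR G) :=
      ⟨⟨hKzn z (by group), le_normalizer_derR ⊤ (mem_top z)⟩, fun x hx => hx.2⟩
    have hle2 : ⁅pCore 3 G, zpowers z⁆ ≤ derR G := by
      rw [← Coprime.commutator_commutator_eq hzN]
      · refine (commutator_mono hle1 le_rfl).trans ?_
        rw [commutator_le]
        intro x hx g hg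
        have := inv_mem ((zpowers_le.mpr hzKD hg).2 x hx)
        rwa [← commutatorElement_def, commutatorElement_inv] at this
      · obtain ⟨k, hk⟩ := IsPGroup.iff_card.mp
          ((PSolvable.pCore_isPGroup (p := 3) (G := G)).to_le
            (Coprime.commutator_le_of_le_normalizer hzN))
        rw [Nat.card_zpowers, hk]
        exact (hco hzS).pow_right k
    exfalso
    refine hc1 (Subtype.ext (Subtype.ext (eq_one_of_fix X.hG (hco hzS)
      (fix_of_trivOn_derived (hco hzS) fun x hx => ?_))))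
    have := inv_mem (hle2 (commutator_mem_commutator hx (mem_zpowers z)))
    rwa [commutatorElement_inv, commutatorElement_def] at this

/-- The commutators of the odd core with the involution form a `3`-group. -/
theorem Ctx.commutator_le_N (hP : X.Fixed) : ⁅X.O, zpowers X.j⁆ ≤ X.N := by
  obtain ⟨i, hi, hii⟩ := X.exists_i
  have hiM : zpowers i ≤ normalizer (bM 3 E : Set G) :=
    zpowers_le.mpr (le_normalizer_bM le_normalizer (X.mem_E1.mp hi).1)
  have hjM : zpowers X.j ≤ normalizer (bM 3 E : Set G) :=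
    zpowers_le.mpr (le_normalizer_bM le_normalizer X.j_mem)
  have hiO := X.O_conj hiM
  have hjO := X.O_conj hjM
  have hcop : ∀ g : G, g ^ 4 = 1 → (Nat.card (zpowers g)).Coprime (Nat.card X.O) := by
    intro g hg
    rw [Nat.card_zpowers]
    refine Nat.Coprime.coprime_dvd_left (orderOf_dvd_of_pow_eq_one hg) ?_
    exact Nat.Coprime.pow_left 2 (Nat.coprime_two_left.mpr X.O_odd)
  have hj4 : X.j ^ 4 = 1 := by
    rw [pow_succ, pow_succ, pow_succ, pow_one, X.j_mul, one_mul, X.j_mul]
  have hi4 : i ^ 4 = 1 := by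
    rw [pow_succ, pow_succ, pow_succ, pow_one, mul_assoc (i * i), hii, X.j_mul]
  have hsolv : ∀ g : G, Group.IsSolvable (zpowers g) := fun g => inferInstance
  set K := X.O ⊓ centralizer ({X.j} : Set G)
  haveI : Fact (Nat.Prime 3) := inferInstance
  obtain ⟨P, hP3⟩ := Coprime.exists_invariant_sylow (p := 3) hjO (hcop X.j hj4)
    (Or.inl (hsolv X.j))
  have hK : ∀ q : ℕ, q.Prime → q ∣ (K.subgroupOf X.O).index → q = 3 := by
    intro q hq hdvd
    by_contra h3
    haveI : Fact q.Prime := ⟨hq⟩
    have hq2 : Odd q := X.O_odd.of_dvd_nat (hdvd.trans (index_dvd_card _))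
    obtain ⟨S, hS⟩ := Coprime.exists_invariant_sylow (p := q) hiO (hcop i hi4) (Or.inl (hsolv i))
    have hfix := X.fix_of_invariant hP hi hii h3 hq2 _ ((S : Subgroup X.O).map X.O.subtype) rfl
      (S.2.map _) ((map_subtype_le _).trans X.O_le_C) (hS (mem_zpowers i))
    have hle : (S : Subgroup X.O) ≤ K.subgroupOf X.O := fun s hs => by
      refine ⟨s.2, mem_centralizer_singleton_iff.mpr ?_⟩
      have h := hfix (s : G) ⟨s, hs, rfl⟩
      show (s : G) * X.j = X.j * (s : G)
      conv_lhs => rw [← h]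
      rw [mul_assoc, X.j_mul, mul_one]
    exact S.not_dvd_index (hdvd.trans (index_dvd_of_le hle))
  have hcopI : (P : Subgroup X.O).index.Coprime (K.subgroupOf X.O).index := by
    refine Nat.coprime_of_dvd fun q hq h1 h2 => ?_
    exact P.not_dvd_index (hK q hq h2 ▸ h1)
  set P' := (P : Subgroup X.O).map X.O.subtype with hP'
  have hle : ⁅X.O, zpowers X.j⁆ ≤ P' := by
    rw [commutator_le]
    intro o ho g hg
    rcases X.zpowers_j_cases hg with rfl | rfl
    · simp [one_mem]
    obtain ⟨s, hs, k, hk, hsk⟩ := exists_mul_of_coprime_index (P : Subgroup X.O)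
      (K.subgroupOf X.O) hcopI ⟨o, ho⟩
    have hkj : (k : G) * X.j = X.j * k := mem_centralizer_singleton_iff.mp hk.2
    have ho' : o = (s : G) * k := congrArg Subtype.val hsk
    have hs' : (s : G) ∈ P' := ⟨s, hs, rfl⟩
    have h := mul_mem hs' ((conj_mem_iff (hP3 (mem_zpowers X.j)) _).mpr (inv_mem hs'))
    convert h using 1
    rw [ho', commutatorElement_def]
    calc (s : G) * k * X.j * ((s : G) * k)⁻¹ * X.j⁻¹
        = (s : G) * ((k : G) * X.j) * (k : G)⁻¹ * (s : G)⁻¹ * X.j⁻¹ := by group
      _ = _ := by rw [hkj]; group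
  have hpg : IsPGroup 3 (⁅X.O, zpowers X.j⁆ : Subgroup G) := (P.2.map _).to_le hle
  have hleO : ⁅X.O, zpowers X.j⁆ ≤ X.O := Coprime.commutator_le_of_le_normalizer hjO
  haveI : ((⁅X.O, zpowers X.j⁆ : Subgroup G).subgroupOf X.O).Normal :=
    normal_subgroupOf_of_le_normalizer (by
      rw [commutator_comm]; exact BTBlock.le_normalizer_commutator_right (zpowers X.j) X.O)
  have h1 : ⁅X.O, zpowers X.j⁆ ≤ pCoreOf 3 X.O := fun x hx =>
    ⟨⟨x, hleO hx⟩, PSolvable.le_pCore (N := (⁅X.O, zpowers X.j⁆ : Subgroup G).subgroupOf X.O)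
      hpg.comap_subtype hx, rfl⟩
  refine h1.trans ?_
  have hn : centralizer (bM 3 E : Set G) ≤ normalizer (pCoreOf 3 X.O : Set G) := fun g hg => by
    refine Amalgam.mem_normalizer_of_map_conj_eq ?_
    rw [← Amalgam.pCoreOf_map _ (MulAut.conj g).injective,
      Amalgam.map_conj_eq_of_mem_normalizer (X.O_conj (centralizer_le_normalizer _) hg)]
  have hle2 : pCoreOf 3 X.O ≤ centralizer (bM 3 E : Set G) :=
    (Amalgam.pCoreOf_le 3 _).trans X.O_le_C
  haveI := normal_subgroupOf_of_le_normalizer hn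
  intro x hx
  exact ⟨⟨x, hle2 hx⟩, PSolvable.le_pCore
    (N := (pCoreOf 3 X.O).subgroupOf (centralizer (bM 3 E : Set G)))
    (Amalgam.isPGroup_pCoreOf X.O).comap_subtype hx, rfl⟩

/-- `C(M)` normalises the block. -/
theorem Ctx.centralizer_le (hP : X.Fixed) :
    centralizer (bM 3 E : Set G) ≤ normalizer (E : Set G) := by
  intro c hc
  set C := centralizer (bM 3 E : Set G)
  have h0 : c * (X.j * c⁻¹ * X.j) ∈ X.O := by
    have := inv_mem (X.commutator_j_mem_O hP hc)
    convert this using 1
    rw [X.j_inv]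
    conv_rhs => rw [_root_.mul_inv_rev, _root_.mul_inv_rev, _root_.mul_inv_rev, inv_inv, X.j_inv]
    group
  obtain ⟨x, hx, -, hjy⟩ := exists_inv_mul_fix X.j_mul
    (X.O_odd.of_dvd_nat (orderOf_dvd_natCard X.O h0))
  have hxO : x ∈ X.O := zpowers_le.mpr h0 hx
  have h1 : x * (X.j * x⁻¹ * X.j) ∈ X.N := by
    have := X.commutator_le_N hP (commutator_mem_commutator hxO (mem_zpowers X.j))
    rwa [commutatorElement_def, X.j_inv, show x * X.j * x⁻¹ * X.j = x * (X.j * x⁻¹ * X.j) by group]
      at this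
  obtain ⟨w, hw, -, hjw⟩ := exists_inv_mul_fix X.j_mul
    (odd_orderOf_of_mem X.N_isPGroup (by decide) h1)
  have hwN : w ∈ X.N := zpowers_le.mpr h1 hw
  have hfixed : ∀ y ∈ C, X.j * y * X.j = y → y ∈ normalizer (E : Set G) := fun y hy hjy =>
    X.J1_inf_C_le hP ⟨X.mem_J1_of_commute (centralizer_le_normalizer _ hy) hjy, hy⟩
  have hxC := X.O_le_C hxO
  rw [show c = w * (w⁻¹ * x) * (x⁻¹ * c) by group]
  exact mul_mem (mul_mem (X.N_le_normalizer hwN)
    (hfixed _ (mul_mem (inv_mem (X.N_le_C hwN)) hxC) hjw)) (hfixed _ (mul_mem (inv_mem hxC) hc) hjy)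

end Cfsg.Agent.Lib.BTBlock.Cent
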