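import Cfsg.Agent.Lib.BTBlock.Cent.Ctx

/-!
# A moved element stabilising `O_3(G) ≥ M ≥ 1` finishes the proof
-/

set_option autoImplicit false

namespace Cfsg.Agent.Lib.BTBlock.Cent

open Subgroup Cfsg Sub Subn Matrix Cfsg.Agent.Lib.SL2
open scoped commutatorElement

universe u

variable {G : Type u} [Group G] [Finite G] [Fact (Nat.Prime 3)]
theorem le_normalizer_trivSub {A B Y : Subgroup G} (hA : Y ≤ normalizer (A : Set G))
    (hB : Y ≤ normalizer (B : Set G)) : Y ≤ normalizer (trivSub A B : Set G) := by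
  refine Coprime.le_normalizer_of_conj_mem fun y hy g hg => ?_
  refine ⟨mul_mem (mul_mem ⟨hA hy, hB hy⟩ hg.1) (inv_mem ⟨hA hy, hB hy⟩), fun a ha => ?_⟩
  have h := (conj_mem_iff (hB hy) _).mpr
    (hg.2 _ ((conj_mem_iff (inv_mem (hA hy)) a).mpr ha))
  convert h using 1
  group

variable {T : Sylow 3 G} {E : Subgroup G} {F : Type} [Field F] [Fintype F] [CharP F 3]
  (X : Ctx T E F)

include X

omit [CharP F 3] in
theorem Ctx.le_normalizer_C : E ≤ normalizer (centralizer (bM 3 E : Set G) : Set G) ∧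
    baumannSubgroupOf 3 (T : Subgroup G) ≤ normalizer (centralizer (bM 3 E : Set G) : Set G) :=
  ⟨le_normalizer_centralizer (le_normalizer_bM le_normalizer),
    le_normalizer_centralizer (le_normalizer_bM' X.hE)⟩

/-- The stabiliser of the chain is normalised by `E` and `B(T)`, hence normalises `E`. -/
theorem Ctx.stab_le : centralizer (bM 3 E : Set G) ⊓ trivSub (pCore 3 G) (bM 3 E) ≤
    normalizer (E : Set G) := by
  set P := centralizer (bM 3 E : Set G) ⊓ trivSub (pCore 3 G) (bM 3 E) with hP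
  have hPp : IsPGroup 3 P := by
    refine isPGroup_of_stab X.hG le_rfl X.hMR (K := pCore 3 G) (M := bM 3 E) ?_ inf_le_right
      inf_le_left
    intro x hx
    exact ⟨⟨BTBlock.le_normalizer_pCore P hx, BTBlock.le_normalizer_pCore P hx⟩,
      fun r hr => mul_mem (X.conj_mem_R hr x) (inv_mem hr)⟩
  have hn : ∀ Y : Subgroup G, Y ≤ normalizer (bM 3 E : Set G) → Y ≤ normalizer (P : Set G) := by
    intro Y hY
    have h1 := le_normalizer_centralizer hY
    have h2 := le_normalizer_trivSub (A := pCore 3 G) (B := bM 3 E) (BTBlock.le_normalizer_pCore Y) hY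
    refine Coprime.le_normalizer_of_conj_mem fun y hy g hg => ⟨?_, ?_⟩
    · exact (conj_mem_iff (h1 hy) g).mpr hg.1
    · exact (conj_mem_iff (h2 hy) g).mpr hg.2
  exact le_normalizer_of_normalized X.hE hPp (hn _ (le_normalizer_bM' X.hE))
    (hn _ (le_normalizer_bM le_normalizer))

/-- An element of `E` centralising `O_3(G)/M` and `M` centralises `O_3(G)`. -/
theorem Ctx.fix_of_trivOn_E {q : G} (hqE : q ∈ E) (hc : q ∈ centralizer (bM 3 E : Set G))
    (ht : TrivOn (pCore 3 G) (bM 3 E) q) : ∀ r ∈ pCore 3 G, q * r * q⁻¹ = r := by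
  obtain ⟨hirr, hfaith, -⟩ := X.hb.section_W
  have hqQ : q ∈ bQ 3 E :=
    hfaith q hqE (trivOn_of_centralizes X.hb (le_normalizer hqE) hc)
  have hZQ : ∀ y ∈ bQ 3 E, q * y = y * q := by
    intro y hy
    have h1 : q * y * q⁻¹ * y⁻¹ ∈ bZ 3 E := by
      have := X.hder.le (commutator_mem_commutator hqQ hy)
      rwa [commutatorElement_def] at this
    exact mul_inv_eq_iff_eq_mul.mp (mul_inv_eq_one.mp
      (X.eq_one_of_mem_M_Z (ht y (X.hQR hy)) h1))
  obtain ⟨-, ⟨hirr₂, -, -⟩, -⟩ := X.hb.exceptional X.hQW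
  obtain ⟨hEQ, -, -⟩ := le_normalizer_section (p := 3) E (le_normalizer (H := E))
  have hqW : q ∈ bW 3 E := by
    rcases hirr₂ (bQ 3 E ⊓ centralizer (bQ 3 E : Set G)) (le_inf (bW_le E) (bW_central E))
      inf_le_left (Coprime.le_normalizer_inf_centralizer hEQ hEQ) with h | h
    · exact h.le ⟨hqQ, mem_centralizer_iff.mpr fun y hy => (hZQ y hy).symm⟩
    · exfalso
      have hab : ⁅bQ 3 E, bQ 3 E⁆ = ⊥ := by
        rw [commutator_eq_bot_iff_le_centralizer]
        exact fun x hx => (h.ge hx).2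
      have hcard := X.hcardZ
      rw [X.hder.symm.trans hab, card_bot] at hcard
      have h1 : 1 < Fintype.card F := Fintype.one_lt_card
      rw [Nat.card_eq_fintype_card] at hcard
      omega
  intro r hr
  rw [← X.R_fix_W hr hqW, mul_inv_cancel_right]

/-- A moved element of the stabiliser forces `[E, C(M)]` to stabilise a chain. -/
theorem Ctx.centralizer_le_of_moved {g : G} (hgC : g ∈ centralizer (bM 3 E : Set G))
    (hgt : TrivOn (pCore 3 G) (bM 3 E) g) {r₀ : G} (hr₀ : r₀ ∈ pCore 3 G)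
    (hne : g * r₀ * g⁻¹ ≠ r₀) : centralizer (bM 3 E : Set G) ≤ normalizer (E : Set G) := by
  set R := pCore 3 G with hR
  set C := centralizer (bM 3 E : Set G) with hC
  set M := bM 3 E with hMdef
  have hEM : E ≤ normalizer (M : Set G) := le_normalizer_bM le_normalizer
  have hEC := X.le_normalizer_C.1
  have hfixM : ∀ c ∈ C, ∀ m ∈ M, c * m * c⁻¹ = m := fun c hc m hm => by
    rw [← mem_centralizer_iff.mp hc m hm, mul_inv_cancel_right]
  have hRM : ∀ r ∈ R, ∀ m ∈ M, r * m * r⁻¹ = m := fun r hr m hm =>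
    X.R_conj_W hr (bM_le_bW E hm)
  let P : Set G := {p | p ∈ C ∧ TrivOn R M p}
  have hmem : ∀ p ∈ P, p ∈ centralizer (bM 3 E : Set G) ⊓ trivSub (pCore 3 G) (bM 3 E) := fun p hp =>
    ⟨hp.1, ⟨BTBlock.le_normalizer_pCore C hp.1, centralizer_le_normalizer _ hp.1⟩, hp.2⟩
  let φ : G → G → G := fun p r => p * r * p⁻¹ * r⁻¹
  have hφmul : ∀ p ∈ P, ∀ a ∈ R, ∀ b ∈ R, φ p (a * b) = φ p a * φ p b := by
    intro p hp a ha b hb
    calc φ p (a * b) = φ p a * (a * φ p b * a⁻¹) := by simp only [φ]; group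
      _ = _ := by rw [hRM a ha _ (hp.2 b hb)]
  have heq : ∀ p ∈ P, ∀ e ∈ E, ∀ r ∈ R, φ p (e * r * e⁻¹) = e * φ p r * e⁻¹ := by
    intro p hp e he r hr
    have hpe : p * e * p⁻¹ * e⁻¹ ∈ E := by
      have hpn := X.stab_le (hmem p hp)
      exact mul_mem ((conj_mem_iff hpn e).mpr he) (inv_mem he)
    have hcomm : ∀ x ∈ R, (p * e * p⁻¹ * e⁻¹) * x * (p * e * p⁻¹ * e⁻¹)⁻¹ = x := by
      refine X.fix_of_trivOn_E hpe ?_ ?_
      · rw [mul_assoc, mul_assoc, ← mul_assoc e]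
        exact mul_mem hp.1 ((conj_mem_iff (hEC he) _).mpr (inv_mem hp.1))
      · have h1 : e * p⁻¹ * e⁻¹ ∈ trivSub R M := (conj_mem_iff
          (le_normalizer_trivSub (BTBlock.le_normalizer_pCore E) hEM he) _).mpr
          (inv_mem (hmem p hp).2)
        have h2 := (mul_mem (hmem p hp).2 h1).2
        convert h2 using 1
        group
    have h := hcomm (e * (p * r * p⁻¹) * e⁻¹) (X.conj_mem_R (X.conj_mem_R hr p) e)
    calc φ p (e * r * e⁻¹)
        = (p * e * p⁻¹ * e⁻¹) * (e * (p * r * p⁻¹) * e⁻¹) * (p * e * p⁻¹ * e⁻¹)⁻¹ *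
            (e * r * e⁻¹)⁻¹ := by simp only [φ]; group
      _ = e * (p * r * p⁻¹) * e⁻¹ * (e * r * e⁻¹)⁻¹ := by rw [h]
      _ = _ := by simp only [φ]; group
  have hRp : ∀ p ∈ P, ∀ y ∈ X.Rp, φ p y = 1 := by
    intro p hp y hy
    obtain ⟨hyR, hjy⟩ := X.mem_Rp.mp hy
    refine X.eq_one_of_fix_inv (X.hMR (hp.2 y hyR)) ?_ (X.j_inv_M (hp.2 y hyR))
    have h := heq p hp X.j X.j_mem y hyR
    rw [X.j_inv, hjy] at h
    exact h.symm
  have hW : ∀ p ∈ P, ∀ w ∈ bW 3 E, φ p w = 1 := by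
    intro p hp w hw
    obtain ⟨m, hm, z, hz, rfl⟩ := exists_mul_bZ X.hb hw
    rw [hφmul p hp m (X.hMR hm) z (X.hWR hz.1), hRp p hp z (X.Z_le_Rp hz)]
    simp only [φ, hfixM p hp.1 m hm, mul_inv_cancel, one_mul]
  set K := X.Rp ⊔ bW 3 E with hK
  have hKR : K ≤ R := sup_le inf_le_left X.hWR
  have hker : ∀ p ∈ P, (∃ r ∈ R, φ p r ≠ 1) → ∀ r ∈ R, φ p r = 1 ↔ r ∈ K := by
    intro p hp ⟨r₁, hr₁, hne₁⟩ r hr
    constructor
    · intro h
      obtain ⟨x, hx, -, y, hy, rfl⟩ := X.decomp hr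
      rw [hφmul p hp x (X.hQR hx) y hy.1, hRp p hp y hy, mul_one] at h
      obtain ⟨-, ⟨hirr₂, -, -⟩, -⟩ := X.hb.exceptional X.hQW
      obtain ⟨hEQ, -, -⟩ := le_normalizer_section (p := 3) E (le_normalizer (H := E))
      have hmem' : ∀ a, a ∈ bQ 3 E ⊓ centralizer ({p} : Set G) ↔ a ∈ bQ 3 E ∧ φ p a = 1 := fun a => by
        rw [mem_inf, mem_centralizer_singleton_iff]
        refine and_congr_right fun _ => ?_
        simp only [φ]
        rw [mul_inv_eq_one, mul_inv_eq_iff_eq_mul]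
        exact eq_comm
      rcases hirr₂ (bQ 3 E ⊓ centralizer ({p} : Set G))
        (fun w hw => (hmem' w).mpr ⟨bW_le E hw, hW p hp w hw⟩) inf_le_left
        (Coprime.le_normalizer_of_conj_mem fun e he a ha => by
          obtain ⟨haQ, ha'⟩ := (hmem' a).mp ha
          refine (hmem' _).mpr ⟨(conj_mem_iff (hEQ he) a).mpr haQ, ?_⟩
          rw [heq p hp e he a (X.hQR haQ), ha', mul_one, mul_inv_cancel]) with h' | h'
      · exact mul_mem (mem_sup_right (h'.le ((hmem' x).mpr ⟨hx, h⟩))) (mem_sup_left hy)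
      · exfalso
        obtain ⟨x₁, hx₁, -, y₁, hy₁, rfl⟩ := X.decomp hr₁
        apply hne₁
        rw [hφmul p hp x₁ (X.hQR hx₁) y₁ hy₁.1, hRp p hp y₁ hy₁,
          ((hmem' x₁).mp (h'.ge hx₁)).2, mul_one]
    · intro h
      let Kf : Subgroup G :=
        { carrier := {a | a ∈ R ∧ φ p a = 1}
          one_mem' := ⟨one_mem _, by simp [φ]⟩
          mul_mem' := fun {a b} ha hb => ⟨mul_mem ha.1 hb.1, by
            rw [hφmul p hp a ha.1 b hb.1, ha.2, hb.2, mul_one]⟩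
          inv_mem' := fun {a} ha => ⟨inv_mem ha.1, by
            have h := hφmul p hp a ha.1 a⁻¹ (inv_mem ha.1)
            rw [mul_inv_cancel, ha.2, one_mul, show φ p 1 = 1 by simp [φ]] at h
            exact h.symm⟩ }
      have hle : K ≤ Kf := sup_le (fun y hy => ⟨hy.1, hRp p hp y hy⟩)
        (fun w hw => ⟨X.hWR hw, hW p hp w hw⟩)
      exact (hle h).2
  have hgP : g ∈ P := ⟨hgC, hgt⟩
  have hgne : ∃ r ∈ R, φ g r ≠ 1 := ⟨r₀, hr₀, fun h => hne (mul_inv_eq_one.mp h)⟩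
  have hconj : ∀ c ∈ C, c⁻¹ * g * c ∈ P := by
    intro c hc
    refine ⟨mul_mem (mul_mem (inv_mem hc) hgC) hc, fun r hr => ?_⟩
    have h := hgt _ (X.conj_mem_R hr c)
    have h2 : c⁻¹ * (g * (c * r * c⁻¹) * g⁻¹ * (c * r * c⁻¹)⁻¹) * c⁻¹⁻¹ ∈ M := by
      rwa [hfixM _ (inv_mem hc) _ h]
    convert h2 using 1
    group
  have hφc : ∀ c ∈ C, ∀ r ∈ R, φ g (c * r * c⁻¹) = φ (c⁻¹ * g * c) r := by
    intro c hc r hr
    have h := hgt _ (X.conj_mem_R hr c)
    calc φ g (c * r * c⁻¹)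
        = c⁻¹ * (g * (c * r * c⁻¹) * g⁻¹ * (c * r * c⁻¹)⁻¹) * c⁻¹⁻¹ :=
          (hfixM _ (inv_mem hc) _ h).symm
      _ = _ := by simp only [φ]; group
  have hKc : C ≤ normalizer (K : Set G) := by
    refine Coprime.le_normalizer_of_conj_mem fun c hc k hk => ?_
    refine (hker g hgP hgne _ (X.conj_mem_R (hKR hk) c)).mp ?_
    rw [hφc c hc k (hKR hk)]
    refine (hker _ (hconj c hc) ?_ k (hKR hk)).mpr hk
    refine ⟨c⁻¹ * r₀ * c⁻¹⁻¹, X.conj_mem_R hr₀ _, ?_⟩
    rw [← hφc c hc _ (X.conj_mem_R hr₀ _)]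
    convert fun h => hne (mul_inv_eq_one.mp h) using 1
    simp only [φ]
    group
  refine centralizer_le_of_isPGroup X.hE (isPGroup_of_stab X.hG hKR X.hMR (K := K) (M := M) ?_ ?_ ?_)
  · rw [commutator_le]
    intro e he c hc
    rw [commutatorElement_def]
    have hEK : e ∈ normalizer (K : Set G) := (X.E_le_trivSub he).1.1
    refine ⟨⟨BTBlock.le_normalizer_pCore ⊤ (mem_top _),
      ((normalizer (K : Set G)).mul_mem ((normalizer (K : Set G)).mul_mem ((normalizer (K : Set G)).mul_mem hEK (hKc hc)) ((normalizer (K : Set G)).inv_mem hEK)) ((normalizer (K : Set G)).inv_mem (hKc hc)))⟩, fun x hx => ?_⟩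
    set h := e * c * e⁻¹ * c⁻¹ with hh
    refine (hker g hgP hgne _ (mul_mem (X.conj_mem_R hx h) (inv_mem hx))).mp ?_
    set r := e⁻¹ * (c⁻¹ * x * c⁻¹⁻¹) * e⁻¹⁻¹ with hr
    have hrR : r ∈ R := X.conj_mem_R (X.conj_mem_R hx _) _
    have e1 : h * x * h⁻¹ = e * (c * r * c⁻¹) * e⁻¹ := by rw [hh, hr]; group
    have e2 : x = c * (e * r * e⁻¹) * c⁻¹ := by rw [hr]; group
    have hkey : φ g (h * x * h⁻¹) = φ g x := by
      rw [e1, heq g hgP e he _ (X.conj_mem_R hrR c), hφc c hc r hrR, e2,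
        hφc c hc _ (X.conj_mem_R hrR e), heq _ (hconj c hc) e he r hrR]
    rw [hφmul g hgP _ (X.conj_mem_R hx h) _ (inv_mem hx), hkey,
      ← hφmul g hgP _ hx _ (inv_mem hx), mul_inv_cancel]
    simp [φ]
  · rw [commutator_le]
    intro e he c hc
    rw [commutatorElement_def]
    exact commutator_mem_trivSub (X.E_le_trivSub he) (hKc hc) (centralizer_le_normalizer _ hc)
  · rw [commutator_comm]
    exact Coprime.commutator_le_of_le_normalizer hEC

end Cfsg.Agent.Lib.BTBlock.Cent
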