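import Cfsg.Agent.Lib.BTBlock.Subn.Inner

/-!
# Tools for `C([W, E]) ≤ N(E)`: square roots in cyclic groups of odd order, stabilised chains
-/

set_option autoImplicit false

namespace Cfsg.Agent.Lib.BTBlock.Cent

open Subgroup Cfsg Sub Subn
open scoped commutatorElement

universe u

variable {G : Type u} [Group G] [Finite G]

/-- An element `g` with `g (j g⁻¹ j)` of odd order is an inverted element times a fixed one. -/
theorem exists_inv_mul_fix {j g : G} (hj : j * j = 1)
    (hodd : Odd (orderOf (g * (j * g⁻¹ * j)))) :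
    ∃ x ∈ zpowers (g * (j * g⁻¹ * j)),
      j * x * j = x⁻¹ ∧ j * (x⁻¹ * g) * j = x⁻¹ * g := by
  set c := g * (j * g⁻¹ * j) with hc
  have hji : j⁻¹ = j := inv_eq_of_mul_eq_one_right hj
  have hjc : j * c * j = c⁻¹ := by
    rw [hc]
    calc j * (g * (j * g⁻¹ * j)) * j = j * g * j * g⁻¹ * (j * j) := by group
      _ = j * g * j * g⁻¹ := by rw [hj, mul_one]
      _ = j⁻¹ * g * j⁻¹ * g⁻¹ := by rw [hji]
      _ = (g * (j * g⁻¹ * j))⁻¹ := by group
  obtain ⟨k, hk⟩ := hodd
  set x := c ^ (k + 1)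
  have hxx : x * x = c := by
    rw [← pow_add, show k + 1 + (k + 1) = orderOf c + 1 by omega, pow_succ, pow_orderOf_eq_one,
      one_mul]
  have hjx : j * x * j = x⁻¹ := by
    have h := conj_pow (i := k + 1) (a := j) (b := c)
    rw [hji, hjc, inv_pow] at h
    exact h.symm
  refine ⟨x, npow_mem_zpowers c (k + 1), hjx, ?_⟩
  have hjxi : j * x⁻¹ * j = x := by
    have := congrArg Inv.inv hjx
    rw [inv_inv, mul_inv_rev, mul_inv_rev, hji, ← mul_assoc] at this
    exact this
  calc j * (x⁻¹ * g) * j = (j * x⁻¹ * j) * (j * g * j) := by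
        simp only [mul_assoc]; rw [← mul_assoc j j, hj, one_mul]
    _ = x * (c⁻¹ * g) := by
        rw [hjxi, hc]
        congr 1
        calc j * g * j = j⁻¹ * g * j⁻¹ := by rw [hji]
          _ = (g * (j * g⁻¹ * j))⁻¹ * g := by group
    _ = x⁻¹ * g := by rw [← hxx]; group

variable {p : ℕ} [Fact p.Prime]

theorem odd_orderOf_of_mem {P : Subgroup G} (hP : IsPGroup p P) (hp : Odd p) {x : G} (hx : x ∈ P) :
    Odd (orderOf x) := by
  obtain ⟨k, hk⟩ := IsPGroup.iff_orderOf.mp hP ⟨x, hx⟩
  rw [orderOf_mk] at hk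
  rw [hk]
  exact hp.pow

theorem eq_one_of_mem_of_coprime {P : Subgroup G} (hP : IsPGroup p P) {x : G} (hx : x ∈ P)
    (hc : (orderOf x).Coprime p) : x = 1 := by
  obtain ⟨k, hk⟩ := IsPGroup.iff_orderOf.mp hP ⟨x, hx⟩
  rw [orderOf_mk] at hk
  rw [← orderOf_eq_one_iff]
  rw [hk] at hc ⊢
  exact Nat.eq_one_of_dvd_coprimes (hc.pow_right k) dvd_rfl dvd_rfl

/-- A `p'`-element trivial on `A / B` and fixing `B` fixes `A`. -/
theorem fix_of_trivOn {A B : Subgroup G} (hB : IsPGroup p B) {h : G}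
    (hh : (orderOf h).Coprime p) (ht : TrivOn A B h) (hfix : ∀ b ∈ B, h * b * h⁻¹ = b) :
    ∀ a ∈ A, h * a * h⁻¹ = a := by
  intro a ha
  have h1 := fix_of_step hB hh (x := a⁻¹) (r := (h * a * h⁻¹ * a⁻¹)⁻¹) (by group)
    (hfix _ (inv_mem (ht a ha))) (inv_mem (ht a ha))
  have := congrArg Inv.inv h1
  rw [inv_inv] at this
  convert this using 1
  group

/-- In a group of characteristic `p` a `p'`-element fixing `O_p(G)` is trivial. -/
theorem eq_one_of_fix (hG : centralizer (pCore p G : Set G) ≤ pCore p G) {h : G}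
    (hh : (orderOf h).Coprime p) (hfix : ∀ r ∈ pCore p G, h * r * h⁻¹ = r) : h = 1 := by
  refine eq_one_of_mem_of_coprime PSolvable.pCore_isPGroup (hG ?_) hh
  rw [mem_centralizer_iff]
  intro r hr
  exact (mul_inv_eq_iff_eq_mul.mp (hfix r hr)).symm

/-- A group of `p'`-trivial elements is a `p`-group. -/
theorem isPGroup_of_coprime_trivial {H : Subgroup G}
    (h : ∀ x ∈ H, (orderOf x).Coprime p → x = 1) : IsPGroup p H := by
  intro x
  obtain ⟨k, hk⟩ := exists_coprime_pow p (x : G)
  exact ⟨k, Subtype.ext (by simpa using h _ (pow_mem x.2 _) hk)⟩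

/-- A group stabilising the chain `O_p(G) ≥ K ≥ M ≥ 1` is a `p`-group. -/
theorem isPGroup_of_stab (hG : centralizer (pCore p G : Set G) ≤ pCore p G) {H K M : Subgroup G}
    (hK : K ≤ pCore p G) (hM : M ≤ pCore p G) (h1 : H ≤ trivSub (pCore p G) K)
    (h2 : H ≤ trivSub K M) (h3 : H ≤ centralizer (M : Set G)) : IsPGroup p H := by
  refine isPGroup_of_coprime_trivial fun x hx hco => eq_one_of_fix hG hco ?_
  have hMf : ∀ m ∈ M, x * m * x⁻¹ = m := fun m hm => by
    rw [← mem_centralizer_iff.mp (h3 hx) m hm, mul_inv_cancel_right]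
  exact fix_of_trivOn (PSolvable.pCore_isPGroup.to_le hK) hco (h1 hx).2
    (fix_of_trivOn (PSolvable.pCore_isPGroup.to_le hM) hco (h2 hx).2 hMf)

/-- Membership of a commutator in the trivial subgroup of a section. -/
theorem commutator_mem_trivSub {A B : Subgroup G} {e c : G} (he : e ∈ trivSub A B)
    (hcA : c ∈ normalizer (A : Set G)) (hcB : c ∈ normalizer (B : Set G)) :
    e * c * e⁻¹ * c⁻¹ ∈ trivSub A B := by
  have h1 : c * e⁻¹ * c⁻¹ ∈ trivSub A B := by
    refine ⟨mul_mem (mul_mem ⟨hcA, hcB⟩ (inv_mem he.1)) (inv_mem ⟨hcA, hcB⟩), fun a ha => ?_⟩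
    have ha' : c⁻¹ * a * c⁻¹⁻¹ ∈ A := (conj_mem_iff (inv_mem hcA) a).mpr ha
    have h2 := (conj_mem_iff hcB _).mpr ((inv_mem he).2 _ ha')
    convert h2 using 1
    group
  have := mul_mem he h1
  convert this using 1
  group

variable {T : Sylow p G} {E : Subgroup G}

theorem le_normalizer_bM' (hE : IsBaumannBlock p (T : Subgroup G) E) :
    baumannSubgroupOf p (T : Subgroup G) ≤ normalizer (bM p E : Set G) :=
  le_normalizer_bM (BTBlock.baumann_le_normalizer hE)

theorem le_normalizer_centralizer {M : Subgroup G} {X : Subgroup G}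
    (h : X ≤ normalizer (M : Set G)) : X ≤ normalizer (centralizer (M : Set G) : Set G) := by
  refine Coprime.le_normalizer_of_conj_mem fun x hx c hc => ?_
  rw [mem_centralizer_iff] at hc ⊢
  intro m hm
  have hm' : x⁻¹ * m * x⁻¹⁻¹ ∈ M := (conj_mem_iff (inv_mem (h hx)) m).mpr hm
  have h1 := hc _ hm'
  calc m * (x * c * x⁻¹) = x * (x⁻¹ * m * x⁻¹⁻¹ * c) * x⁻¹ := by group
    _ = x * (c * (x⁻¹ * m * x⁻¹⁻¹)) * x⁻¹ := by rw [h1]
    _ = x * c * x⁻¹ * m := by group

/-- If `[E, C]` is a `p`-group then `C` normalises the block. -/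
theorem centralizer_le_of_isPGroup (hE : IsBaumannBlock p (T : Subgroup G) E)
    (hP : IsPGroup p (⁅E, centralizer (bM p E : Set G)⁆ : Subgroup G)) :
    centralizer (bM p E : Set G) ≤ normalizer (E : Set G) := by
  set C := centralizer (bM p E : Set G)
  set P : Subgroup G := ⁅E, C⁆ with hPdef
  have hEC : E ≤ normalizer (C : Set G) := le_normalizer_centralizer (le_normalizer_bM le_normalizer)
  have hBC : baumannSubgroupOf p (T : Subgroup G) ≤ normalizer (C : Set G) :=
    le_normalizer_centralizer (le_normalizer_bM' hE)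
  have hPN : P ≤ normalizer (E : Set G) := le_normalizer_of_normalized hE hP
    (Coprime.le_normalizer_commutator (BTBlock.baumann_le_normalizer hE) hBC)
    (Coprime.le_normalizer_commutator le_normalizer hEC)
  refine Coprime.le_normalizer_of_conj_mem fun c hc x hx => ?_
  have hle : E ≤ E.comap (MulAut.conj c).toMonoidHom := by
    conv_lhs => rw [← hE.1, pResidualOf_eq_closure]
    rw [closure_le]
    rintro y ⟨hy, hyo⟩
    refine mem_of_coprime_of_sup hP hPN ?_ ((MulEquiv.orderOf_eq (MulAut.conj c) y).symm ▸ hyo)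
    have h1 := inv_mem (commutator_mem_commutator hy hc)
    rw [commutatorElement_inv, commutatorElement_def] at h1
    have h2 := mul_mem (mem_sup_left (T := E) h1) (mem_sup_right (S := P) hy)
    convert h2 using 1
    simp
  exact hle hx

/-- The ordinary case: `[O_p(G), E] ≤ W`. -/
theorem centralizer_le_of_commutator_le (hG : centralizer (pCore p G : Set G) ≤ pCore p G)
    (hE : IsBaumannBlock p (T : Subgroup G) E) (hW : ⁅pCore p G, E⁆ ≤ bW p E) :
    centralizer (bM p E : Set G) ≤ normalizer (E : Set G) := by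
  have hb : IsBlock p E := ⟨T, hE⟩
  set R := pCore p G
  set C := centralizer (bM p E : Set G)
  have hMR : bM p E ≤ R := (bM_le_bU hG hb).trans (omegaOneCenter_props p _).1
  have hnR : ∀ X : Subgroup G, X ≤ normalizer (R : Set G) := fun X => BTBlock.le_normalizer_pCore X
  have hEM : E ≤ normalizer (bM p E : Set G) := le_normalizer_bM le_normalizer
  have hEt : E ≤ trivSub R (bM p E) := by
    conv_lhs => rw [← hE.1, pResidualOf_eq_closure]
    rw [closure_le]
    rintro e ⟨he, heo⟩
    refine ⟨⟨hnR E he, hEM he⟩, fun r hr => ?_⟩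
    have hZE : zpowers e ≤ E := zpowers_le.mpr he
    have hcop : (Nat.card (zpowers e)).Coprime (Nat.card (⁅R, zpowers e⁆ : Subgroup G)) := by
      obtain ⟨k, hk⟩ := IsPGroup.iff_card.mp (PSolvable.pCore_isPGroup.to_le
        (Coprime.commutator_le_of_le_normalizer (hnR (zpowers e))))
      rw [Nat.card_zpowers, hk]
      exact heo.pow_right k
    have h1 : (⁅R, zpowers e⁆ : Subgroup G) ≤ bM p E := by
      rw [← Coprime.commutator_commutator_eq (hnR (zpowers e)) hcop]
      exact commutator_mono ((commutator_mono le_rfl hZE).trans hW) hZE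
    have h2 := inv_mem (h1 (commutator_mem_commutator hr (mem_zpowers e)))
    rwa [commutatorElement_inv, commutatorElement_def] at h2
  refine centralizer_le_of_isPGroup hE (isPGroup_of_stab hG le_rfl hMR ?_ (K := R) (M := bM p E) ?_ ?_)
  · intro x hx
    have hxR := hnR ⁅E, C⁆ hx
    exact ⟨⟨hxR, hxR⟩, fun r hr => mul_mem ((conj_mem_iff hxR r).mpr hr) (inv_mem hr)⟩
  · rw [commutator_le]
    intro e he c hc
    rw [commutatorElement_def]
    refine commutator_mem_trivSub (hEt he) (hnR C hc) ?_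
    exact centralizer_le_normalizer _ hc
  · rw [commutator_comm]
    exact Coprime.commutator_le_of_le_normalizer (le_normalizer_centralizer hEM)

/-- Either `[O_p(G), E] ≤ W` or the block is exceptional with `O_p(E) ≤ O_p(G)`. -/
theorem commutator_le_or (hG : centralizer (pCore p G : Set G) ≤ pCore p G)
    (hE : IsBaumannBlock p (T : Subgroup G) E) :
    ⁅pCore p G, E⁆ ≤ bW p E ∨ (bQ p E ≠ bW p E ∧ bQ p E ≤ pCore p G) := by
  have hb : IsBlock p E := ⟨T, hE⟩
  have hle : ⁅pCore p G, E⁆ ≤ bQ p E ⊓ pCore p G := by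
    rw [commutator_le]
    intro r hr e he
    exact ⟨(hb.commutator_mem_bQ he hr).2, Coprime.commutator_le_of_le_normalizer
      (BTBlock.le_normalizer_pCore E) (commutator_mem_commutator hr he)⟩
  by_cases hQW : bQ p E = bW p E
  · exact Or.inl (hle.trans (inf_le_left.trans hQW.le))
  obtain ⟨hp, ⟨hirr, -, -⟩, hder, -, -⟩ := hb.exceptional hQW
  obtain ⟨-, hEW, -⟩ := le_normalizer_section (p := p) E (le_normalizer (H := E))
  rcases hirr ((bQ p E ⊓ pCore p G) ⊔ bW p E) le_sup_right (sup_le inf_le_left (bW_le E))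
    (Coprime.le_normalizer_of_conj_mem fun e he x hx => by
      have hn : ((bQ p E ⊓ pCore p G) ⊔ bW p E).map (MulAut.conj e).toMonoidHom ≤
          (bQ p E ⊓ pCore p G) ⊔ bW p E := by
        rw [Subgroup.map_sup]
        refine sup_le_sup ?_ ?_ <;> rintro _ ⟨y, hy, rfl⟩
        · exact ⟨(conj_mem_iff (bQ_normal E he) y).mpr hy.1,
            (conj_mem_iff (BTBlock.le_normalizer_pCore E he) y).mpr hy.2⟩
        · exact (conj_mem_iff (hEW he) y).mpr hy
      exact hn ⟨x, hx, rfl⟩) with h | h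
  · exact Or.inl (hle.trans (le_sup_left.trans h.le))
  · refine Or.inr ⟨hQW, ?_⟩
    have hM : bM p E ≤ bQ p E ⊓ pCore p G :=
      le_inf ((bM_le_bW E).trans (bW_le E)) ((bM_le_bU hG hb).trans (omegaOneCenter_props p _).1)
    have h1 : bQ p E ≤ (bQ p E ⊓ pCore p G) ⊔ bZ p E := by
      conv_lhs => rw [← h, ← bM_sup_bZ hb]
      exact sup_le le_sup_left (sup_le (hM.trans le_sup_left) le_sup_right)
    have hZΦ : bZ p E ≤ (frattini ↥(bQ p E)).map (bQ p E).subtype := by
      rw [← hder, ← _root_.Subgroup.map_subtype_commutator]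
      exact map_mono (Transfer.commutator_le_frattini_of_isPGroup (isPGroup_bQ E))
    have h2 : ((bQ p E ⊓ pCore p G).subgroupOf (bQ p E)) ⊔ frattini ↥(bQ p E) = ⊤ := by
      refine eq_top_iff.mpr fun q _ => ?_
      have h3 : (bQ p E ⊓ pCore p G) ⊔ bZ p E ≤
          ((bQ p E ⊓ pCore p G).subgroupOf (bQ p E) ⊔ frattini ↥(bQ p E)).map (bQ p E).subtype := by
        rw [Subgroup.map_sup, map_subgroupOf_eq_of_le inf_le_left]
        exact sup_le_sup le_rfl hZΦ
      obtain ⟨y, hy, hyq⟩ := h3 (h1 q.2)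
      rwa [show q = y from Subtype.ext hyq.symm]
    exact (subgroupOf_eq_top.mp (frattini_nongenerating h2)).trans inf_le_right

end Cfsg.Agent.Lib.BTBlock.Cent
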